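import Cfsg.Agent.Lib.ExcInvol.SubSystem

/-!
Building the certificate of a fixed root subsystem from tables of natural numbers.
-/

set_option autoImplicit false

namespace CfsgLib.ExcInvol

open Cfsg.Lie CfsgLib.ChevStr

/-- The tables of a fixed root subsystem. -/
structure Tables (D E : ChevalleyDatum) where
  ι : List ℕ
  κ : List ℕ
  word : List (List ℕ)
  node : List ℕ
  B : List (List ℤ)
  d : ℕ
  Q : List (List ℤ)
  e : ℤ

/-- The members below a bound, as elements of the finite type. -/
def finsOf (n : ℕ) (L : List ℕ) : List (Fin n) :=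
  L.filterMap fun i => if h : i < n then some ⟨i, h⟩ else none

theorem map_val_finsOf {n : ℕ} : ∀ {L : List ℕ}, (∀ i ∈ L, i < n) → (finsOf n L).map Fin.val = L
  | [], _ => rfl
  | a :: L, h => by
    have ih := map_val_finsOf (L := L) fun i hi => h i (List.mem_cons_of_mem _ hi)
    simp only [finsOf] at ih
    simp [finsOf, h a (List.mem_cons_self ..), ih]

/-- A word of indices applied to a root index. -/
def wordN (D : ChevalleyDatum) (L : List ℕ) (s : ℕ) : ℕ :=
  L.foldr (fun i x => D.reflectRoot i x) s

theorem wordN_eq (D : ChevalleyDatum) (L : List (Fin D.rank)) (s : ℕ) :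
    wordN D (L.map Fin.val) s = wordApply D L s := by
  rw [wordN, wordApply, List.foldr_map]

namespace Tables

variable {D E : ChevalleyDatum} (T : Tables D E)

/-- The root of the larger system at an index. -/
def ιN (x : ℕ) : ℕ := T.ι.getD x 0

/-- The word at an index. -/
def wordAt (b : ℕ) : List ℕ := T.word.getD b []

/-- The node at an index. -/
def nodeAt (b : ℕ) : ℕ := T.node.getD b 0

/-- The checks on roots. -/
def rootsCheck (R : RootData D) (m : Mask D) : Bool :=
  ((List.range E.nroots).all fun x => decide (T.ιN x < D.nroots) &&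
    decide (T.κ.getD (T.ιN x) 0 = x) && decide (par R m (T.ιN x) = 0) &&
    (decide (E.IsPosRoot x) == decide (D.IsPosRoot (T.ιN x)))) &&
  ((List.range D.nroots).all fun s => decide (par R m s = 0 →
    T.κ.getD s 0 < E.nroots ∧ T.ιN (T.κ.getD s 0) = s)) &&
  ((List.range E.rank).all fun b =>
    decide (T.nodeAt b < D.rank) && ((T.wordAt b).all fun i => decide (i < D.rank)) &&
    decide (par R m (wordN D (T.wordAt b) (D.simple (T.nodeAt b))) = 0) &&
    ((List.range E.nroots).all fun x => decide
      (wordN D (T.wordAt b ++ [T.nodeAt b] ++ (T.wordAt b).reverse) (T.ιN x) =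
        T.ιN (E.reflectRoot b x))))

/-- The checks on integer matrices. -/
def matCheck (R : RootData D) (RE : ℕ → ℕ) : Bool :=
  decide (0 < T.d) && decide (T.e ≠ 0) &&
  ((List.finRange D.rank).all fun j => (List.finRange D.rank).all fun k =>
    decide ((∑ b : Fin E.rank, D.cartan (T.nodeAt b.val)
        (wordN D (T.wordAt b.val).reverse (D.simple j.val)) * (T.B.getD b.val []).getD k.val 0) =
      if j = k then (T.d : ℤ) else 0) &&
    decide ((∑ b : Fin E.rank, (T.Q.getD j.val []).getD b.val 0 * R.α (T.ιN (RE b.val)) k) =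
      if k = j then T.e else 0))

/-- The certificate from the checks. -/
noncomputable def toSubCert {R : RootData D} {hR : ReflData R} {m : Mask D} (RE : RootData E)
    (hE : ReflData RE) (h1 : T.rootsCheck R m = true) (h2 : T.matCheck R E.simple = true)
    (hcard : Nat.card hR.weyl = (orbitSet hR m).card * Nat.card hE.weyl) : SubCert hR m :=
  have h1' : (∀ x < E.nroots, T.ιN x < D.nroots ∧ T.κ.getD (T.ιN x) 0 = x ∧ par R m (T.ιN x) = 0 ∧
        (E.IsPosRoot x ↔ D.IsPosRoot (T.ιN x))) ∧
      (∀ s < D.nroots, par R m s = 0 → T.κ.getD s 0 < E.nroots ∧ T.ιN (T.κ.getD s 0) = s) ∧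
      ∀ b < E.rank, T.nodeAt b < D.rank ∧ (∀ i ∈ T.wordAt b, i < D.rank) ∧
        par R m (wordN D (T.wordAt b) (D.simple (T.nodeAt b))) = 0 ∧
        ∀ x < E.nroots, wordN D (T.wordAt b ++ [T.nodeAt b] ++ (T.wordAt b).reverse) (T.ιN x) =
          T.ιN (E.reflectRoot b x) := by
    simpa [rootsCheck, and_assoc, imp_iff_not_or] using h1
  have h2' : 0 < T.d ∧ T.e ≠ 0 ∧ ∀ j k : Fin D.rank,
      ((∑ b : Fin E.rank, D.cartan (T.nodeAt b.val)
          (wordN D (T.wordAt b.val).reverse (D.simple j.val)) * (T.B.getD b.val []).getD k.val 0) =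
        if j = k then (T.d : ℤ) else 0) ∧
      ((∑ b : Fin E.rank, (T.Q.getD j.val []).getD b.val 0 * R.α (T.ιN (E.simple b.val)) k) =
        if k = j then T.e else 0) := by
    simpa [matCheck, and_assoc] using h2
  have hw : ∀ b : Fin E.rank, (finsOf D.rank (T.wordAt b.val)).map Fin.val = T.wordAt b.val :=
    fun b => map_val_finsOf (h1'.2.2 b.val b.isLt).2.1
  { E := E
    RE := RE
    hE := hE
    ι := fun x => ⟨T.ιN x.val, (h1'.1 x.val x.isLt).1⟩
    ι_inj := fun x y h => by
      have h' : T.ιN x.val = T.ιN y.val := congrArg Fin.val h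
      exact Fin.ext (by rw [← (h1'.1 x.val x.isLt).2.1, h', (h1'.1 y.val y.isLt).2.1])
    range_ι := fun s => by
      constructor
      · rintro ⟨x, rfl⟩
        exact (h1'.1 x.val x.isLt).2.2.1
      · intro hs
        exact ⟨⟨_, (h1'.2.1 s.val s.isLt hs).1⟩, Fin.ext (h1'.2.1 s.val s.isLt hs).2⟩
    pos_iff := fun x => (h1'.1 x.val x.isLt).2.2.2
    word := fun b => finsOf D.rank (T.wordAt b.val)
    node := fun b => ⟨T.nodeAt b.val, (h1'.2.2 b.val b.isLt).1⟩
    refl_ι := fun b x => by
      rw [← wordN_eq, reflWord, List.map_append, List.map_append, List.map_reverse, hw,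
        List.map_singleton]
      exact (h1'.2.2 b.val b.isLt).2.2.2 x.val x.isLt
    root_mem := fun b => by
      rw [← wordN_eq, hw]
      exact (h1'.2.2 b.val b.isLt).2.2.1
    B := fun b k => (T.B.getD b.val []).getD k.val 0
    d := T.d
    d_pos := h2'.1
    torus_spec := fun j k => by
      rw [← (h2'.2.2 j k).1]
      refine Finset.sum_congr rfl fun b _ => ?_
      rw [← wordN_eq, List.map_reverse, hw]
    Q := fun j b => (T.Q.getD j.val []).getD b.val 0
    e := T.e
    e_ne := h2'.2.1
    span_spec := fun j i => (h2'.2.2 j i).2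
    card_eq := hcard }

end Tables

end CfsgLib.ExcInvol
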