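import Cfsg.Agent.Lib.ExcInvol.Torus
import Cfsg.Agent.Lib.ChevStr.Orders

/-!
The order of the centraliser of a torus element of order two in a Chevalley group over a finite field
of odd order, from the Poincaré polynomial of the roots it fixes.
-/

set_option autoImplicit false

namespace CfsgLib.ExcInvol

open Cfsg.Lie CfsgLib.ChevStr CfsgLib.CycTorus
open ChevCore
open scoped MatrixGroups

variable {D : ChevalleyDatum} {F : Type*} [Field F] (C : ChevCore D F)
  {N : Matrix (Fin D.rank) (Fin D.rank) ℤ} (hN : N * cartanMat D = 1) {m : Mask D}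

/-- The element of a sign pattern inside the group. -/
def torElt (N : Matrix (Fin D.rank) (Fin D.rank) ℤ) (m : Mask D) : ↥(D.group F) :=
  ⟨C.R.torus (signPar (K := F) N m), C.borel_le_group (C.torus_mem_borel _)⟩

theorem ncard_invRoots_fixed (w : Equiv.Perm (Fin D.nroots)) :
    {r | r ∈ C.hR.invRoots w ∧ par C.R m r = 0}.ncard =
      ((C.hR.invSet w).filter fun s => par C.R m (s : Fin D.nroots) = 0).card := by
  rw [← Set.ncard_coe_finset, ← Set.ncard_image_of_injective _ Fin.val_injective]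
  congr 1
  ext r
  constructor
  · rintro ⟨⟨h, hr⟩, hp⟩
    exact ⟨⟨r, h⟩, Finset.mem_filter.2 ⟨hr, hp⟩, rfl⟩
  · rintro ⟨s, hs, rfl⟩
    obtain ⟨h1, h2⟩ := Finset.mem_filter.1 hs
    exact ⟨⟨s.isLt, h1⟩, h2⟩

theorem ncard_pos_fixed (T : SubCert C.hR m) :
    {r | r ∈ {r | D.IsPosRoot r} ∧ par C.R m r = 0}.ncard = {r | T.E.IsPosRoot r}.ncard := by
  have h : {r | r ∈ {r | D.IsPosRoot r} ∧ par C.R m r = 0} =
      (fun x : Fin T.E.nroots => (T.ι x : ℕ)) '' {x | T.E.IsPosRoot x} := by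
    ext r
    constructor
    · rintro ⟨hr, hp⟩
      obtain ⟨x, hx⟩ := (T.range_ι ⟨r, hr.1⟩).2 hp
      refine ⟨x, (T.pos_iff x).2 (by rw [hx]; exact hr), by simp [hx]⟩
    · rintro ⟨x, hx, rfl⟩
      exact ⟨(T.pos_iff x).1 hx, T.par_ι x⟩
  rw [h, Set.ncard_image_of_injective (f := fun x : Fin T.E.nroots => (T.ι x : ℕ)) _
    (Fin.val_injective.comp T.ι_inj), ← Set.ncard_image_of_injective _ Fin.val_injective]
  congr 1
  ext r
  constructor
  · rintro ⟨x, hx, rfl⟩; exact hx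
  · intro hr; exact ⟨⟨r, hr.1⟩, hr, rfl⟩

include hN

theorem card_centralizer_sum [NeZero (2 : F)] [Fintype F] [Fintype (stab C.hR m)] :
    Nat.card (Subgroup.centralizer ({torElt C N m} : Set ↥(D.group F))) =
      Fintype.card F ^ {r | r ∈ {r | D.IsPosRoot r} ∧ par C.R m r = 0}.ncard *
        Nat.card (D.diagonalSubgroup F) *
        ∑ u : stab C.hR m, Fintype.card F ^ ((C.hR.invSet (u : Equiv.Perm (Fin D.nroots))).filter
          fun s => par C.R m (s : Fin D.nroots) = 0).card := by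
  classical
  have hr : ∀ u : stab C.hR m, ∃ n ∈ D.monomialSubgroup F,
      C.Moves n (u : Equiv.Perm (Fin D.nroots)) := fun u => by
    obtain ⟨n, hn, h⟩ := C.exists_rep u.2.1
    exact ⟨n, C.rep_mem_monomial hn, Acts.moves C h⟩
  choose rep hrepN hrep using hr
  set t := C.R.torus (signPar (K := F) N m) with ht
  set S := {r | r ∈ {r | D.IsPosRoot r} ∧ par C.R m r = 0} with hS
  set I := fun u : stab C.hR m =>
    {r | r ∈ C.hR.invRoots (u : Equiv.Perm (Fin D.nroots)) ∧ par C.R m r = 0} with hI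
  have hUB : C.Ucl S ≤ D.borelSubgroup F := C.Ucl_le fun r hr t => C.pos_mem_borel hr.1 t
  have hIw : ∀ u, C.Ucl (I u) ≤ C.Ucl (C.hR.invRoots (u : Equiv.Perm (Fin D.nroots))) := fun u =>
    C.Ucl_mono fun r hr => hr.1
  have hdiagc : ∀ d ∈ D.diagonalSubgroup F, d * t = t * d := by
    intro d hd
    rw [C.diagonalSubgroup_eq] at hd
    obtain ⟨c, rfl⟩ := hd
    rw [ht, ← map_mul, ← map_mul, mul_comm]
  let f : (Σ u : stab C.hR m, (C.Ucl S × D.diagonalSubgroup F) × C.Ucl (I u)) →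
      Subgroup.centralizer ({torElt C N m} : Set ↥(D.group F)) := fun x =>
    ⟨⟨(x.2.1.1 : GL D.Idx F) * x.2.1.2 * rep x.1 * x.2.2,
      mul_mem (mul_mem (C.borel_le_group (mul_mem (hUB x.2.1.1.2)
        (le_sup_right (a := D.posUnipotent F) x.2.1.2.2))) (C.monomial_le_group (hrepN x.1)))
        (C.borel_le_group (C.Ucl_invRoots_le _ (hIw x.1 x.2.2.2)))⟩,
      Subgroup.mem_centralizer_singleton_iff.2 (Subtype.ext (by
        show (x.2.1.1 : GL D.Idx F) * x.2.1.2 * rep x.1 * x.2.2 * t =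
          t * ((x.2.1.1 : GL D.Idx F) * x.2.1.2 * rep x.1 * x.2.2)
        have h1 := Ucl_commute C hN (m := m) (fun r hr => hr.2) x.2.1.1.2
        have h2 := hdiagc _ x.2.1.2.2
        have h3 := monomial_commute C hN (hrepN x.1) (hrep x.1) x.1.2
        have h4 := Ucl_commute C hN (m := m) (fun r hr => hr.2) x.2.2.2
        rw [← ht] at h1 h3 h4
        rw [mul_assoc _ (x.2.2 : GL D.Idx F) t, ← h4, ← mul_assoc,
          mul_assoc _ (rep x.1) t, h3, ← mul_assoc, mul_assoc _ (x.2.1.2 : GL D.Idx F) t, h2,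
          ← mul_assoc, ← h1]
        simp only [mul_assoc]))⟩
  have hf : Function.Bijective f := by
    refine ⟨?_, fun g => ?_⟩
    · rintro ⟨u, ⟨v, d⟩, x⟩ ⟨u', ⟨v', d'⟩, x'⟩ h
      have h' := congrArg (fun y : Subgroup.centralizer ({torElt C N m} : Set ↥(D.group F)) =>
        ((y : ↥(D.group F)) : GL D.Idx F)) h
      simp only [f] at h'
      have hb : ∀ (v : C.Ucl S) (d : D.diagonalSubgroup F), (v : GL D.Idx F) * d ∈ D.borelSubgroup F :=
        fun v d => mul_mem (hUB v.2) (le_sup_right (a := D.posUnipotent F) d.2)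
      obtain ⟨h1, -, h2⟩ := C.normalForm_unique (hb v d) (hb v' d') (hrepN u) (hrepN u') (hrep u)
        (hrep u') (hIw u x.2) (hIw u' x'.2) h'
      obtain rfl : u = u' := Subtype.ext h1
      obtain ⟨h3, h4⟩ := h2 rfl
      obtain rfl : x = x' := Subtype.ext h4
      have h5 : ((v' : GL D.Idx F))⁻¹ * v = d' * (d : GL D.Idx F)⁻¹ := by
        rw [eq_mul_inv_iff_mul_eq, mul_assoc, h3, inv_mul_cancel_left]
      have hSpos : C.Ucl S ≤ D.posUnipotent F :=
        C.Ucl_le fun r hr t => C.xGL_mem_posUnipotent hr.1 t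
      have h6 : ((v' : GL D.Idx F))⁻¹ * v = 1 :=
        (Subgroup.eq_bot_iff_forall _).1 C.posUnipotent_inf_diagonal _ (Subgroup.mem_inf.2
          ⟨mul_mem (inv_mem (hSpos v'.2)) (hSpos v.2), h5 ▸ mul_mem d'.2 (inv_mem d.2)⟩)
      obtain rfl : v' = v := Subtype.ext (inv_mul_eq_one.1 h6)
      obtain rfl : d = d' := Subtype.ext (mul_left_cancel h3)
      rfl
    · have hg := Subgroup.mem_centralizer_singleton_iff.1 g.2
      obtain ⟨w, hw, n, hn, hnw, v, hv, c, u, hu, hdec⟩ :=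
        stab_of_commute C hN (g := ((g : ↥(D.group F)) : GL D.Idx F)) (g : ↥(D.group F)).2
          (congrArg Subtype.val hg)
      have hd : n * (rep ⟨w, hw⟩)⁻¹ ∈ D.diagonalSubgroup F :=
        C.mem_diagonal_of_moves_one (mul_mem hn (inv_mem (hrepN _)))
          (by simpa using Moves.mul C hnw (Moves.inv C (hrepN ⟨w, hw⟩) (hrep ⟨w, hw⟩)))
      have hc : C.R.torus c ∈ D.diagonalSubgroup F := by
        rw [C.diagonalSubgroup_eq]; exact ⟨c, rfl⟩
      refine ⟨⟨⟨w, hw⟩, ⟨⟨v, hv⟩, ⟨_, mul_mem hc hd⟩⟩, ⟨u, hu⟩⟩, Subtype.ext (Subtype.ext ?_)⟩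
      show v * (C.R.torus c * (n * (rep ⟨w, hw⟩)⁻¹)) * rep ⟨w, hw⟩ * u = _
      rw [hdec]
      group
  rw [← Nat.card_eq_of_bijective f hf, Nat.card_sigma, Finset.mul_sum]
  refine Finset.sum_congr rfl fun u _ => ?_
  rw [Nat.card_prod, Nat.card_prod, C.card_Ucl (isClosed_fixed C C.R.isClosed_pos m),
    C.card_Ucl (isClosed_fixed C (C.hR.invRoots_closed u.2.1) m), ncard_invRoots_fixed]

/-- The order of the centraliser. -/
theorem card_centralizer [NeZero (2 : F)] [Fintype F] (T : SubCert C.hR m) {M : ℕ}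
    (hM : {r | T.E.IsPosRoot r}.ncard = M) {degs : List ℕ}
    (hP : ∀ z : ℤ, T.hE.poincare Finset.univ z * (z - 1) ^ T.E.rank =
      (degs.map fun d : ℕ => z ^ d - 1).prod) (hrank : T.E.rank = D.rank)
    (hH : Nat.card (D.diagonalSubgroup F) = (Fintype.card F - 1) ^ D.rank) :
    Nat.card (Subgroup.centralizer ({torElt C N m} : Set ↥(D.group F))) =
      Fintype.card F ^ M * (degs.map fun d => Fintype.card F ^ d - 1).prod := by
  classical
  rw [card_centralizer_sum C hN, ncard_pos_fixed C T, hM, hH, mul_assoc]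
  congr 1
  refine Nat.cast_injective (R := ℤ) ?_
  rw [prod_map_cast_sub_one Fintype.card_pos, ← hP, Nat.cast_mul, Nat.cast_pow,
    Nat.cast_sub Fintype.card_pos, Nat.cast_one, Nat.cast_sum, ← hrank, mul_comm]
  simp only [Nat.cast_pow]
  rw [T.sum_stab]

end CfsgLib.ExcInvol
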