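import Cfsg.Agent.Lib.ExcInvol.Reduce
import Cfsg.Agent.Lib.ExcInvol.Count
import Cfsg.Agent.Lib.RegTorus.RankOneMap
import Mathlib.FieldTheory.Finite.Basic
import Mathlib.FieldTheory.IsAlgClosed.AlgebraicClosure

/-!
Involutions of a Chevalley group over a finite field of odd order: by Lang's theorem applied to the
centraliser over the algebraic closure, each is conjugate to one of finitely many torus elements.
-/

set_option autoImplicit false

namespace CfsgLib.ExcInvol

open Cfsg.Lie CfsgLib.ChevStr CfsgLib.CycTorus CfsgLib.ChevField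
open scoped MatrixGroups

variable {D : ChevalleyDatum}

theorem mem_range_of_pow_card_eq {F K : Type*} [Field F] [Fintype F] [Field K] [Algebra F K] {x : K}
    (hx : x ^ Fintype.card F = x) : ∃ a, algebraMap F K a = x := by
  classical
  by_contra hn
  have hP : (Polynomial.X ^ Fintype.card F - Polynomial.X : Polynomial K) ≠ 0 :=
    FiniteField.X_pow_card_sub_X_ne_zero _ Fintype.one_lt_card
  have hsub : (insert x ((Finset.univ : Finset F).image (algebraMap F K))).val ⊆
      (Polynomial.X ^ Fintype.card F - Polynomial.X : Polynomial K).roots := by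
    intro z hz
    rw [Finset.mem_val, Finset.mem_insert, Finset.mem_image] at hz
    rw [Polynomial.mem_roots hP]
    rcases hz with rfl | ⟨a, -, rfl⟩
    · simp [hx]
    · simp [← map_pow, FiniteField.pow_card]
  have h1 := Polynomial.card_le_degree_of_subset_roots hsub
  rw [FiniteField.X_pow_card_sub_X_natDegree_eq _ Fintype.one_lt_card, Finset.card_insert_of_notMem
    (fun h => hn (by simpa using h)), Finset.card_image_of_injective _ (algebraMap F K).injective,
    Finset.card_univ] at h1
  omega

theorem map_signPar {F K : Type*} [Field F] [Field K] (f : F →+* K)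
    (N : Matrix (Fin D.rank) (Fin D.rank) ℤ) (m : Mask D) :
    (fun k => Units.map (f : F →* K) (signPar (K := F) N m k)) = signPar (K := K) N m := by
  have hsg : ∀ a : ZMod 2, Units.map (f : F →* K) (sgn a) = sgn a := fun a => by
    unfold sgn
    split_ifs
    · exact map_one _
    · exact Units.ext (by simp)
  funext k
  simp only [signPar, monMap, map_prod, map_zpow, hsg]

section Fixed

variable {K : Type*} [Field K] [IsAlgClosed K] [NeZero (2 : K)] (C : ChevCore D K)
  {N : Matrix (Fin D.rank) (Fin D.rank) ℤ} (hN : N * cartanMat D = 1)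

include hN

/-- A Frobenius-fixed element conjugate to a torus involution is so by a fixed element. -/
theorem exists_fixed_conj {m : Mask D} (T : SubCert C.hR m) {q : ℕ} (hq : 1 < q) (σ : K ≃+* K)
    (hσ : ∀ t, σ t = t ^ q) {y g : GL D.Idx K} (hfix : mapGL σ.toRingHom y = y) (hg : g ∈ D.group K)
    (h : g * y * g⁻¹ = C.R.torus (signPar (K := K) N m)) :
    ∃ k ∈ D.group K, mapGL σ.toRingHom k = k ∧ k * y * k⁻¹ = C.R.torus (signPar (K := K) N m) := by
  set t := C.R.torus (signPar (K := K) N m) with ht
  have htfix : mapGL σ.toRingHom t = t := by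
    rw [ht, RegTorus.mapGL_torus_hom, map_signPar]
  set n := mapGL σ.toRingHom g * g⁻¹ with hn
  have hσg : mapGL σ.toRingHom g ∈ D.group K := group_map_le σ.toRingHom ⟨g, hg, rfl⟩
  have h' : mapGL σ.toRingHom g * y * (mapGL σ.toRingHom g)⁻¹ = t := by
    have h1 := congrArg (mapGL σ.toRingHom) h
    rwa [map_mul, map_mul, map_inv, hfix, htfix] at h1
  have hnt : n * t = t * n := by
    rw [hn]
    conv_lhs => rw [← h]
    rw [← h']
    group
  have hlev := mem_lev_of_commute C hN T (mul_mem hσg (inv_mem hg)) hnt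
  obtain ⟨c, hc, hcn⟩ := (levCurves C m).exists_lang (φ := σ.toRingHom) hσ hq
    (fun r u => Units.ext (ChevField.x_map σ.toRingHom (Fin.val r.1) u)) (inv_mem hlev)
  refine ⟨c * g, mul_mem (lev_le_group C m hc) hg, ?_, ?_⟩
  · have h1 : mapGL σ.toRingHom c = c * n⁻¹ := by
      rw [show mapGL σ.toRingHom c = c * (c⁻¹ * mapGL σ.toRingHom c) by group]
      exact congrArg (c * ·) hcn
    rw [map_mul, h1, hn]
    group
  · calc c * g * y * (c * g)⁻¹ = c * (g * y * g⁻¹) * c⁻¹ := by group
      _ = t := by rw [h, mul_inv_eq_iff_eq_mul]; exact (lev_commute C hN hc).symm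

end Fixed

section Finite

variable {F : Type*} [Field F] [Fintype F] (CF : ChevCore D F) (CK : ChevCore D (AlgebraicClosure F))
  (hR : CF.R = CK.R) {N : Matrix (Fin D.rank) (Fin D.rank) ℤ} (hN : N * cartanMat D = 1)

omit [Fintype F] in
include hR in
theorem mapGL_torElt (m : Mask D) :
    mapGL (algebraMap F (AlgebraicClosure F)) (torElt CF N m : GL D.Idx F) =
      CK.R.torus (signPar (K := AlgebraicClosure F) N m) := by
  show mapGL _ (CF.R.torus _) = _
  rw [RegTorus.mapGL_torus_hom, map_signPar, hR]

include hN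

omit [Fintype F] in
/-- The element of a nonzero sign pattern has order two. -/
theorem orderOf_torElt [NeZero (2 : F)] {m : Mask D} (hm : m ≠ 0) : orderOf (torElt CF N m) = 2 :=
  orderOf_eq_prime (Subtype.ext (by
      show ((torElt CF N m : ↥(D.group F)) : GL D.Idx F) ^ 2 = 1
      rw [sq]; exact torus_signPar_sq CF hN m))
    (fun h => torus_signPar_ne_one CF hN hm (congrArg Subtype.val h))

omit [Fintype F] in
/-- Elements of inequivalent sign patterns are not conjugate. -/
theorem not_isConj_torElt [NeZero (2 : F)] {m m' : Mask D} (h : m' ∉ orbitSet CF.hR m) :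
    ¬ IsConj (torElt CF N m) (torElt CF N m') := fun hc => by
  obtain ⟨g, hg⟩ := isConj_iff.1 hc
  exact h (mem_orbit_of_conj CF hN g.2 (congrArg Subtype.val hg))

include hR in
/-- Every involution of the finite group is conjugate to the element of one of two sign patterns. -/
theorem involution_classes (hodd : Odd (Fintype.card F)) (hn : 0 < D.nroots)
    {m₁ m₂ : Mask D} (T₁ : SubCert CK.hR m₁) (T₂ : SubCert CK.hR m₂)
    (hcover : ∀ m : Mask D, m ≠ 0 → m ∈ orbitSet CK.hR m₁ ∨ m ∈ orbitSet CK.hR m₂)
    {u : ↥(D.group F)} (hu : orderOf u = 2) :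
    IsConj u (torElt CF N m₁) ∨ IsConj u (torElt CF N m₂) := by
  obtain ⟨p, hp⟩ := CharP.exists F
  have : Fact p.Prime := ⟨CharP.char_is_prime F p⟩
  have hp2 : p ≠ 2 := fun e => by
    subst e
    obtain ⟨k, -, hk⟩ := FiniteField.card F 2
    rw [hk] at hodd
    exact absurd hodd (by simp [parity_simps])
  set f := algebraMap F (AlgebraicClosure F) with hf
  have : CharP (AlgebraicClosure F) p := charP_of_injective_ringHom f.injective p
  have : NeZero (2 : AlgebraicClosure F) := ⟨fun h => hp2 ((Nat.prime_dvd_prime_iff_eq Fact.out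
    Nat.prime_two).1 ((CharP.cast_eq_zero_iff (AlgebraicClosure F) p 2).1 (by exact_mod_cast h)))⟩
  set σ : AlgebraicClosure F ≃+* AlgebraicClosure F :=
    (FiniteField.frobeniusAlgEquivOfAlgebraic F (AlgebraicClosure F)).toRingEquiv with hσdef
  have hσ : ∀ t, σ t = t ^ Fintype.card F := fun t => rfl
  set y := mapGL f (u : GL D.Idx F) with hy
  have hyG : y ∈ D.group (AlgebraicClosure F) := group_map_le f ⟨_, u.2, rfl⟩
  have hyfix : mapGL σ.toRingHom y = y := by
    refine Units.ext (Matrix.ext fun a b => ?_)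
    show σ (f ((u : GL D.Idx F) a b)) = f ((u : GL D.Idx F) a b)
    rw [hσ, ← map_pow, FiniteField.pow_card]
  have hu1 : u ^ 2 = 1 := hu ▸ pow_orderOf_eq_one u
  have hune : u ≠ 1 := fun e => by rw [e, orderOf_one] at hu; exact absurd hu (by decide)
  have hy2 : y * y = 1 := by
    have h0 : (u : GL D.Idx F) * u = 1 := by
      have := congrArg Subtype.val hu1
      rwa [sq] at this
    rw [hy, ← map_mul, h0, map_one]
  have hyne : y ≠ 1 := fun e => hune (Subtype.ext (mapGL_injective f (e.trans (map_one (mapGL f)).symm)))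
  obtain ⟨g, hg, c, hc⟩ := toTorus_of_sq CK hn p hp2 hyG hy2
  obtain ⟨m, hm⟩ := exists_mask CK hN (c := c) (by
    rw [← hc, show g * y * g⁻¹ * (g * y * g⁻¹) = g * (y * y) * g⁻¹ by group, hy2]
    group)
  have hm0 : m ≠ 0 := fun e => by
    subst e
    have h1 : CK.R.torus (signPar (K := AlgebraicClosure F) N (0 : Mask D)) = 1 := by
      rw [CK.torus_eq_one_iff]
      show coords (D := D) (signPar (K := AlgebraicClosure F) N (0 : Mask D)) = fun _ => 1
      rw [coords_signPar hN]
      funext j
      exact sgn_zero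
    rw [← hc, h1, mul_inv_eq_one, mul_eq_left] at hm
    exact hyne hm
  have key : ∀ m', SubCert CK.hR m' → m ∈ orbitSet CK.hR m' → IsConj u (torElt CF N m') := by
    intro m' T hmem
    obtain ⟨a, ha, hconj⟩ := exists_conj_of_mem_orbit CK hN hmem
    have hgy : (a⁻¹ * g) * y * (a⁻¹ * g)⁻¹ = CK.R.torus (signPar (K := AlgebraicClosure F) N m') := by
      rw [show a⁻¹ * g * y * (a⁻¹ * g)⁻¹ = a⁻¹ * (g * y * g⁻¹) * a by group, hc, hm, ← hconj]
      group
    obtain ⟨k, hk, hkfix, hky⟩ := exists_fixed_conj CK hN T Fintype.one_lt_card σ hσ hyfix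
      (mul_mem (inv_mem ha) hg) hgy
    obtain ⟨k0, hk0, rfl⟩ := mem_map_of_fixed CK σ f
      (fun x hx => mem_range_of_pow_card_eq (by rw [← hσ, hx])) N (fun i j => by
        have := congrFun (congrFun hN i) j
        rw [Matrix.mul_apply, Matrix.one_apply] at this
        rw [show (if j = i then (1 : ℤ) else 0) = if i = j then 1 else 0 by simp [eq_comm]]
        exact this) hk hkfix
    refine isConj_iff.2 ⟨⟨k0, hk0⟩, Subtype.ext (mapGL_injective f ?_)⟩
    show mapGL f (k0 * (u : GL D.Idx F) * k0⁻¹) = _
    rw [map_mul, map_mul, map_inv, hf, mapGL_torElt CF CK hR]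
    exact hky
  exact (hcover m hm0).imp (key m₁ T₁) (key m₂ T₂)

end Finite

end CfsgLib.ExcInvol
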