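import Cfsg.Agent.Lib.ExcInvol.TablesE8

/-!
Tables for the class of sign patterns of type E8 fixing roots of type E7 + A1.
-/

set_option autoImplicit false
set_option maxHeartbeats 4000000

namespace CfsgLib.ExcInvol.E8

open Cfsg.Lie CfsgLib.ChevStr

/-- Chains of the root 33 of pattern A. -/
def chainA33 : Array (ℕ × Array (ℕ × ℤ)) := #[(2, #[(1, 1)]), (34, #[(18, 1)]), (35, #[(19, 1)]), (36, #[(20, 1)]), (37, #[(21, 1)]), (38, #[(22, 1)]), (39, #[(23, 1)]), (40, #[(24, 1)]), (41, #[(25, 1)]), (42, #[(26, 1)]), (43, #[(27, 1)]), (49, #[(28, 1)]), (50, #[(29, 1)]), (51, #[(30, 1)]), (52, #[(31, 1)]), (53, #[(32, 1)]), (95, #[(74, 1)]), (96, #[(75, 1)]), (97, #[(76, 1)]), (98, #[(77, 1)]), (99, #[(78, 1)]), (100, #[(84, 1)]), (101, #[(85, 1)]), (102, #[(86, 1)]), (103, #[(87, 1)]), (104, #[(88, 1)]), (105, #[(89,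 1)]), (106, #[(90, 1)]), (107, #[(91, 1)]), (108, #[(92, 1)]), (109, #[(93, 1)]), (126, #[(125, 1)])]

/-- Chains of the root 48 of pattern A. -/
def chainA48 : Array (ℕ × Array (ℕ × ℤ)) := #[(8, #[(4, 1)]), (9, #[(5, 1)]), (10, #[(6, 1)]), (11, #[(7, 1)]), (28, #[(24, 1)]), (29, #[(25, 1)]), (30, #[(26, 1)]), (31, #[(27, 1)]), (49, #[(40, 1)]), (50, #[(41, 1)]), (51, #[(42, 1)]), (52, #[(43, 1)]), (54, #[(44, 1)]), (55, #[(45, 1)]), (56, #[(46, 1)]), (57, #[(47, 1)]), (80, #[(70, 1)]), (81, #[(71, 1)]), (82, #[(72, 1)]), (83, #[(73, 1)]), (84, #[(75, 1)]), (85, #[(76, 1)]), (86, #[(77, 1)]), (87, #[(78, 1)]), (100, #[(96, 1)]), (101, #[(97, 1)]), (102, #[(98, 1)]), (103, #[(99, 1)]), (120, #[(116, 1)]), (121, #[(117, 1)]), (122, #[(118, 1)]), (123, #[(119, 1)])]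

/-- Chains of the root 53 of pattern A. -/
def chainA53 : Array (ℕ × Array (ℕ × ℤ)) := #[(3, #[(2, 1)]), (18, #[(12, 1)]), (19, #[(13, 1)]), (20, #[(14, 1)]), (21, #[(15, 1)]), (22, #[(16, 1)]), (23, #[(17, 1)]), (33, #[(32, 1)]), (44, #[(40, 1)]), (45, #[(41, 1)]), (46, #[(42, 1)]), (47, #[(43, 1)]), (54, #[(49, 1)]), (55, #[(50, 1)]), (56, #[(51, 1)]), (57, #[(52, 1)]), (75, #[(70, 1)]), (76, #[(71, 1)]), (77, #[(72, 1)]), (78, #[(73, 1)]), (84, #[(80, 1)]), (85, #[(81, 1)]), (86, #[(82, 1)]), (87, #[(83, 1)]), (95, #[(94, 1)]), (110, #[(104, 1)]), (111, #[(105, 1)]), (112, #[(106, 1)]), (113, #[(107, 1)]), (114, #[(108, 1)]), (115, #[(109, 1)]), (125, #[(124, 1)])]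

/-- Chains of the root 57 of pattern A. -/
def chainA57 : Array (ℕ × Array (ℕ × ℤ)) := #[(4, #[(3, 1)]), (12, #[(9, 1)]), (13, #[(10, 1)]), (14, #[(11, 1)]), (24, #[(21, 1)]), (25, #[(22, 1)]), (26, #[(23, 1)]), (32, #[(31, 1)]), (40, #[(37, 1)]), (41, #[(38, 1)]), (42, #[(39, 1)]), (48, #[(47, 1)]), (53, #[(52, 1)]), (58, #[(54, 1)]), (59, #[(55, 1)]), (60, #[(56, 1)]), (71, #[(67, 1)]), (72, #[(68, 1)]), (73, #[(69, 1)]), (75, #[(74, 1)]), (80, #[(79, 1)]), (88, #[(85, 1)]), (89, #[(86, 1)]), (90, #[(87, 1)]), (96, #[(95, 1)]), (104, #[(101, 1)]), (105, #[(102, 1)]), (106, #[(103, 1)]), (116, #[(113, 1)]), (117, #[(114, 1)]), (118, #[(115, 1)]), (124, #[(123, 1)])]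

/-- Chains of the root 60 of pattern A. -/
def chainA60 : Array (ℕ × Array (ℕ × ℤ)) := #[(5, #[(4, 1)]), (9, #[(8, 1)]), (15, #[(13, 1)]), (16, #[(14, 1)]), (21, #[(19, 1)]), (22, #[(20, 1)]), (27, #[(26, 1)]), (31, #[(30, 1)]), (37, #[(35, 1)]), (38, #[(36, 1)]), (43, #[(42, 1)]), (47, #[(46, 1)]), (52, #[(51, 1)]), (57, #[(56, 1)]), (61, #[(58, 1)]), (62, #[(59, 1)]), (68, #[(65, 1)]), (69, #[(66, 1)]), (71, #[(70, 1)]), (76, #[(75, 1)]), (81, #[(80, 1)]), (85, #[(84, 1)]), (91, #[(89, 1)]), (92, #[(90, 1)]), (97, #[(96, 1)]), (101, #[(100, 1)]), (107, #[(105, 1)]), (108, #[(106, 1)]), (113, #[(111, 1)]), (114, #[(112, 1)]), (119, #[(118, 1)]), (123, #[(122, 1)])]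

/-- Chains of the root 62 of pattern A. -/
def chainA62 : Array (ℕ × Array (ℕ × ℤ)) := #[(6, #[(5, 1)]), (10, #[(9, 1)]), (13, #[(12, 1)]), (17, #[(16, 1)]), (19, #[(18, 1)]), (23, #[(22, 1)]), (26, #[(25, 1)]), (30, #[(29, 1)]), (35, #[(34, 1)]), (39, #[(38, 1)]), (42, #[(41, 1)]), (46, #[(45, 1)]), (51, #[(50, 1)]), (56, #[(55, 1)]), (60, #[(59, 1)]), (63, #[(61, 1)]), (66, #[(64, 1)]), (68, #[(67, 1)]), (72, #[(71, 1)]), (77, #[(76, 1)]), (82, #[(81, 1)]), (86, #[(85, 1)]), (89, #[(88, 1)]), (93, #[(92, 1)]), (98, #[(97, 1)]), (102, #[(101, 1)]), (105, #[(104, 1)]), (109, #[(108, 1)]), (111, #[(110, 1)]), (115, #[(114, 1)]), (118, #[(117, 1)]), (122, #[(121, 1)])]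

/-- Chains of the root 63 of pattern A. -/
def chainA63 : Array (ℕ × Array (ℕ × ℤ)) := #[(7, #[(6, 1)]), (11, #[(10, 1)]), (14, #[(13, 1)]), (16, #[(15, 1)]), (20, #[(19, 1)]), (22, #[(21, 1)]), (25, #[(24, 1)]), (29, #[(28, 1)]), (36, #[(35, 1)]), (38, #[(37, 1)]), (41, #[(40, 1)]), (45, #[(44, 1)]), (50, #[(49, 1)]), (55, #[(54, 1)]), (59, #[(58, 1)]), (62, #[(61, 1)]), (66, #[(65, 1)]), (69, #[(68, 1)]), (73, #[(72, 1)]), (78, #[(77, 1)]), (83, #[(82, 1)]), (87, #[(86, 1)]), (90, #[(89, 1)]), (92, #[(91, 1)]), (99, #[(98, 1)]), (103, #[(102, 1)]), (106, #[(105, 1)]), (108, #[(107, 1)]), (112, #[(111, 1)]), (114, #[(113, 1)]), (117, #[(116, 1)]), (121, #[(120, 1)])]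

/-- Chains of the root 64 of pattern A. -/
def chainA64 : Array (ℕ × Array (ℕ × ℤ)) := #[(6, #[(7, 1)]), (10, #[(11, 1)]), (13, #[(14, 1)]), (15, #[(16, 1)]), (19, #[(20, 1)]), (21, #[(22, 1)]), (24, #[(25, 1)]), (28, #[(29, 1)]), (35, #[(36, 1)]), (37, #[(38, 1)]), (40, #[(41, 1)]), (44, #[(45, 1)]), (49, #[(50, 1)]), (54, #[(55, 1)]), (58, #[(59, 1)]), (61, #[(62, 1)]), (65, #[(66, 1)]), (68, #[(69, 1)]), (72, #[(73, 1)]), (77, #[(78, 1)]), (82, #[(83, 1)]), (86, #[(87, 1)]), (89, #[(90, 1)]), (91, #[(92, 1)]), (98, #[(99, 1)]), (102, #[(103, 1)]), (105, #[(106, 1)]), (107, #[(108, 1)]), (111, #[(112, 1)]), (113, #[(114, 1)]), (116, #[(117, 1)]), (120, #[(121, 1)])]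

/-- Chains of the root 65 of pattern A. -/
def chainA65 : Array (ℕ × Array (ℕ × ℤ)) := #[(5, #[(6, 1)]), (9, #[(10, 1)]), (12, #[(13, 1)]), (16, #[(17, 1)]), (18, #[(19, 1)]), (22, #[(23, 1)]), (25, #[(26, 1)]), (29, #[(30, 1)]), (34, #[(35, 1)]), (38, #[(39, 1)]), (41, #[(42, 1)]), (45, #[(46, 1)]), (50, #[(51, 1)]), (55, #[(56, 1)]), (59, #[(60, 1)]), (61, #[(63, 1)]), (64, #[(66, 1)]), (67, #[(68, 1)]), (71, #[(72, 1)]), (76, #[(77, 1)]), (81, #[(82, 1)]), (85, #[(86, 1)]), (88, #[(89, 1)]), (92, #[(93, 1)]), (97, #[(98, 1)]), (101, #[(102, 1)]), (104, #[(105, 1)]), (108, #[(109, 1)]), (110, #[(111, 1)]), (114, #[(115, 1)]), (117, #[(118, 1)]), (121, #[(122, 1)])]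

/-- Chains of the root 67 of pattern A. -/
def chainA67 : Array (ℕ × Array (ℕ × ℤ)) := #[(4, #[(5, 1)]), (8, #[(9, 1)]), (13, #[(15, 1)]), (14, #[(16, 1)]), (19, #[(21, 1)]), (20, #[(22, 1)]), (26, #[(27, 1)]), (30, #[(31, 1)]), (35, #[(37, 1)]), (36, #[(38, 1)]), (42, #[(43, 1)]), (46, #[(47, 1)]), (51, #[(52, 1)]), (56, #[(57, 1)]), (58, #[(61, 1)]), (59, #[(62, 1)]), (65, #[(68, 1)]), (66, #[(69, 1)]), (70, #[(71, 1)]), (75, #[(76, 1)]), (80, #[(81, 1)]), (84, #[(85, 1)]), (89, #[(91, 1)]), (90, #[(92, 1)]), (96, #[(97, 1)]), (100, #[(101, 1)]), (105, #[(107, 1)]), (106, #[(108, 1)]), (111, #[(113, 1)]), (112, #[(114, 1)]), (118, #[(119, 1)]), (122, #[(123, 1)])]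

/-- Chains of the root 70 of pattern A. -/
def chainA70 : Array (ℕ × Array (ℕ × ℤ)) := #[(3, #[(4, 1)]), (9, #[(12, 1)]), (10, #[(13, 1)]), (11, #[(14, 1)]), (21, #[(24, 1)]), (22, #[(25, 1)]), (23, #[(26, 1)]), (31, #[(32, 1)]), (37, #[(40, 1)]), (38, #[(41, 1)]), (39, #[(42, 1)]), (47, #[(48, 1)]), (52, #[(53, 1)]), (54, #[(58, 1)]), (55, #[(59, 1)]), (56, #[(60, 1)]), (67, #[(71, 1)]), (68, #[(72, 1)]), (69, #[(73, 1)]), (74, #[(75, 1)]), (79, #[(80, 1)]), (85, #[(88, 1)]), (86, #[(89, 1)]), (87, #[(90, 1)]), (95, #[(96, 1)]), (101, #[(104, 1)]), (102, #[(105, 1)]), (103, #[(106, 1)]), (113, #[(116, 1)]), (114, #[(117, 1)]), (115, #[(118, 1)]), (123, #[(124, 1)])]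

/-- Chains of the root 74 of pattern A. -/
def chainA74 : Array (ℕ × Array (ℕ × ℤ)) := #[(2, #[(3, 1)]), (12, #[(18, 1)]), (13, #[(19, 1)]), (14, #[(20, 1)]), (15, #[(21, 1)]), (16, #[(22, 1)]), (17, #[(23, 1)]), (32, #[(33, 1)]), (40, #[(44, 1)]), (41, #[(45, 1)]), (42, #[(46, 1)]), (43, #[(47, 1)]), (49, #[(54, 1)]), (50, #[(55, 1)]), (51, #[(56, 1)]), (52, #[(57, 1)]), (70, #[(75, 1)]), (71, #[(76, 1)]), (72, #[(77, 1)]), (73, #[(78, 1)]), (80, #[(84, 1)]), (81, #[(85, 1)]), (82, #[(86, 1)]), (83, #[(87, 1)]), (94, #[(95, 1)]), (104, #[(110, 1)]), (105, #[(111, 1)]), (106, #[(112, 1)]), (107, #[(113, 1)]), (108, #[(114, 1)]), (109, #[(115, 1)]), (124, #[(125, 1)])]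

/-- Chains of the root 79 of pattern A. -/
def chainA79 : Array (ℕ × Array (ℕ × ℤ)) := #[(4, #[(8, 1)]), (5, #[(9, 1)]), (6, #[(10, 1)]), (7, #[(11, 1)]), (24, #[(28, 1)]), (25, #[(29, 1)]), (26, #[(30, 1)]), (27, #[(31, 1)]), (40, #[(49, 1)]), (41, #[(50, 1)]), (42, #[(51, 1)]), (43, #[(52, 1)]), (44, #[(54, 1)]), (45, #[(55, 1)]), (46, #[(56, 1)]), (47, #[(57, 1)]), (70, #[(80, 1)]), (71, #[(81, 1)]), (72, #[(82, 1)]), (73, #[(83, 1)]), (75, #[(84, 1)]), (76, #[(85, 1)]), (77, #[(86, 1)]), (78, #[(87, 1)]), (96, #[(100, 1)]), (97, #[(101, 1)]), (98, #[(102, 1)]), (99, #[(103, 1)]), (116, #[(120, 1)]), (117, #[(121, 1)]), (118, #[(122, 1)]), (119, #[(123, 1)])]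

/-- Chains of the root 94 of pattern A. -/
def chainA94 : Array (ℕ × Array (ℕ × ℤ)) := #[(1, #[(2, 1)]), (18, #[(34, 1)]), (19, #[(35, 1)]), (20, #[(36, 1)]), (21, #[(37, 1)]), (22, #[(38, 1)]), (23, #[(39, 1)]), (24, #[(40, 1)]), (25, #[(41, 1)]), (26, #[(42, 1)]), (27, #[(43, 1)]), (28, #[(49, 1)]), (29, #[(50, 1)]), (30, #[(51, 1)]), (31, #[(52, 1)]), (32, #[(53, 1)]), (74, #[(95, 1)]), (75, #[(96, 1)]), (76, #[(97, 1)]), (77, #[(98, 1)]), (78, #[(99, 1)]), (84, #[(100, 1)]), (85, #[(101, 1)]), (86, #[(102, 1)]), (87, #[(103, 1)]), (88, #[(104, 1)]), (89, #[(105, 1)]), (90, #[(106, 1)]), (91, #[(107, 1)]), (92, #[(108, 1)]), (93, #[(109, 1)]), (125, #[(126, 1)])]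

/-- Coroots of the roots of pattern A. -/
def corootA : Array (Array ℤ) :=
  #[#[-1, 0, 0, 0, 0, 0, 0, 0], #[0, -2, -2, -3, -4, -3, -2, -1], #[0, -1, -2, -3, -4, -3, -2, -1], #[0, -1, -2, -2, -4, -3, -2, -1], #[0, -1, -2, -2, -3, -3, -2, -1], #[0, -1, -2, -2, -3, -2, -2, -1], #[0, -1, -2, -2, -3, -2, -1, -1], #[0, -1, -2, -2, -3, -2, -1, 0], #[0, -1, -1, -2, -3, -3, -2, -1], #[0, -1, -1, -2, -3, -2, -2, -1], #[0, -1, -1, -2, -3, -2, -1, -1], #[0, -1, -1, -2, -3, -2, -1, 0], #[0, -1, -1, -2, -2, -2, -2, -1], #[0, -1, -1, -2, -2, -2, -1, -1], #[0, -1, -1, -2, -2, -2, -1, 0], #[0, -1, -1, -2, -2, -1, -1, -1], #[0, -1, -1, -2, -2, -1, -1, 0], #[0, -1, -1, -2, -2, -1, 0, 0], #[0, -1, -1, -1, -2, -2, -2, -1], #[0, -1, -1, -1, -2, -2, -1, -1], #[0, -1, -1, -1, -2, -2, -1, 0], #[0, -1, -1, -1, -2, -1, -1, -1], #[0, -1,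 -1, -1, -2, -1, -1, 0], #[0, -1, -1, -1, -2, -1, 0, 0], #[0, -1, -1, -1, -1, -1, -1, -1], #[0, -1, -1, -1, -1, -1, -1, 0], #[0, -1, -1, -1, -1, -1, 0, 0], #[0, -1, -1, -1, -1, 0, 0, 0], #[0, -1, 0, -1, -1, -1, -1, -1], #[0, -1, 0, -1, -1, -1, -1, 0], #[0, -1, 0, -1, -1, -1, 0, 0], #[0, -1, 0, -1, -1, 0, 0, 0], #[0, -1, 0, -1, 0, 0, 0, 0], #[0, -1, 0, 0, 0, 0, 0, 0], #[0, 0, -1, -1, -2, -2, -2, -1], #[0, 0, -1, -1, -2, -2, -1, -1], #[0, 0, -1, -1, -2, -2, -1, 0], #[0, 0, -1, -1, -2, -1, -1, -1], #[0, 0, -1, -1, -2, -1, -1, 0], #[0, 0, -1, -1, -2, -1, 0, 0], #[0, 0, -1, -1, -1, -1, -1, -1], #[0, 0, -1, -1, -1, -1, -1, 0], #[0, 0, -1, -1, -1, -1, 0, 0], #[0, 0, -1, -1, -1, 0, 0, 0], #[0, 0, -1, 0, -1, -1, -1, -1], #[0, 0, -1, 0, -1, -1, -1, 0], #[0, 0, -1, 0, -1, -1, 0, 0], #[0, 0, -1, 0, -1, 0, 0, 0], #[0, 0, -1, 0,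 0, 0, 0, 0], #[0, 0, 0, -1, -1, -1, -1, -1], #[0, 0, 0, -1, -1, -1, -1, 0], #[0, 0, 0, -1, -1, -1, 0, 0], #[0, 0, 0, -1, -1, 0, 0, 0], #[0, 0, 0, -1, 0, 0, 0, 0], #[0, 0, 0, 0, -1, -1, -1, -1], #[0, 0, 0, 0, -1, -1, -1, 0], #[0, 0, 0, 0, -1, -1, 0, 0], #[0, 0, 0, 0, -1, 0, 0, 0], #[0, 0, 0, 0, 0, -1, -1, -1], #[0, 0, 0, 0, 0, -1, -1, 0], #[0, 0, 0, 0, 0, -1, 0, 0], #[0, 0, 0, 0, 0, 0, -1, -1], #[0, 0, 0, 0, 0, 0, -1, 0], #[0, 0, 0, 0, 0, 0, 0, -1], #[0, 0, 0, 0, 0, 0, 0, 1], #[0, 0, 0, 0, 0, 0, 1, 0], #[0, 0, 0, 0, 0, 0, 1, 1], #[0, 0, 0, 0, 0, 1, 0, 0], #[0, 0, 0, 0, 0, 1, 1, 0], #[0, 0, 0, 0, 0, 1, 1, 1], #[0, 0, 0, 0, 1, 0, 0, 0], #[0, 0, 0, 0, 1, 1, 0, 0], #[0, 0, 0, 0, 1, 1, 1, 0], #[0, 0, 0, 0, 1, 1, 1, 1], #[0, 0, 0, 1, 0, 0, 0, 0], #[0, 0, 0, 1, 1, 0, 0, 0], #[0, 0, 0, 1, 1, 1, 0, 0], #[0, 0, 0, 1, 1, 1,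 1, 0], #[0, 0, 0, 1, 1, 1, 1, 1], #[0, 0, 1, 0, 0, 0, 0, 0], #[0, 0, 1, 0, 1, 0, 0, 0], #[0, 0, 1, 0, 1, 1, 0, 0], #[0, 0, 1, 0, 1, 1, 1, 0], #[0, 0, 1, 0, 1, 1, 1, 1], #[0, 0, 1, 1, 1, 0, 0, 0], #[0, 0, 1, 1, 1, 1, 0, 0], #[0, 0, 1, 1, 1, 1, 1, 0], #[0, 0, 1, 1, 1, 1, 1, 1], #[0, 0, 1, 1, 2, 1, 0, 0], #[0, 0, 1, 1, 2, 1, 1, 0], #[0, 0, 1, 1, 2, 1, 1, 1], #[0, 0, 1, 1, 2, 2, 1, 0], #[0, 0, 1, 1, 2, 2, 1, 1], #[0, 0, 1, 1, 2, 2, 2, 1], #[0, 1, 0, 0, 0, 0, 0, 0], #[0, 1, 0, 1, 0, 0, 0, 0], #[0, 1, 0, 1, 1, 0, 0, 0], #[0, 1, 0, 1, 1, 1, 0, 0], #[0, 1, 0, 1, 1, 1, 1, 0], #[0, 1, 0, 1, 1, 1, 1, 1], #[0, 1, 1, 1, 1, 0, 0, 0], #[0, 1, 1, 1, 1, 1, 0, 0], #[0, 1, 1, 1, 1, 1, 1, 0], #[0, 1, 1, 1, 1, 1, 1, 1], #[0, 1, 1, 1, 2, 1, 0, 0], #[0, 1, 1, 1, 2, 1, 1, 0], #[0, 1, 1, 1, 2, 1, 1, 1], #[0, 1, 1, 1, 2, 2, 1, 0], #[0, 1,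 1, 1, 2, 2, 1, 1], #[0, 1, 1, 1, 2, 2, 2, 1], #[0, 1, 1, 2, 2, 1, 0, 0], #[0, 1, 1, 2, 2, 1, 1, 0], #[0, 1, 1, 2, 2, 1, 1, 1], #[0, 1, 1, 2, 2, 2, 1, 0], #[0, 1, 1, 2, 2, 2, 1, 1], #[0, 1, 1, 2, 2, 2, 2, 1], #[0, 1, 1, 2, 3, 2, 1, 0], #[0, 1, 1, 2, 3, 2, 1, 1], #[0, 1, 1, 2, 3, 2, 2, 1], #[0, 1, 1, 2, 3, 3, 2, 1], #[0, 1, 2, 2, 3, 2, 1, 0], #[0, 1, 2, 2, 3, 2, 1, 1], #[0, 1, 2, 2, 3, 2, 2, 1], #[0, 1, 2, 2, 3, 3, 2, 1], #[0, 1, 2, 2, 4, 3, 2, 1], #[0, 1, 2, 3, 4, 3, 2, 1], #[0, 2, 2, 3, 4, 3, 2, 1], #[1, 0, 0, 0, 0, 0, 0, 0]]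

/-- Cartan integers of the roots of pattern A. -/
def cartanA : Array (Array ℤ) :=
  #[#[-2, 0, 0, 0, 0, 0, 0, 0, 0, 0, 0, 0, 0, 0, 0, 0, 0, 0, 0, 0, 0, 0, 0, 0, 0, 0, 0, 0, 0, 0, 0, 0, 0, 0, 0, 0, 0, 0, 0, 0, 0, 0, 0, 0, 0, 0, 0, 0, 0, 0, 0, 0, 0, 0, 0, 0, 0, 0, 0, 0, 0, 0, 0, 0, 0, 0, 0, 0, 0, 0, 0, 0, 0, 0, 0, 0, 0, 0, 0, 0, 0, 0, 0, 0, 0, 0, 0, 0, 0, 0, 0, 0, 0, 0, 0, 0, 0, 0, 0, 0, 0, 0, 0, 0, 0, 0, 0, 0, 0, 0, 0, 0, 0, 0, 0, 0, 0, 0, 0, 0, 0, 0, 0, 0, 0, 0, 0, 2], #[0, -1, 1, 0, 0, 0, 0, 0, 0, 0, 0, 0, 0, 0, 0, 0, 0, 0, -1, -1, -1, -1, -1, -1, -1, -1, -1, -1, -1, -1, -1, -1, -1, -2, 1, 1, 1, 1, 1, 1, 1, 1, 1, 1, 0, 0, 0, 0, 0, 1, 1, 1, 1, 1, 0, 0, 0, 0, 0, 0, 0, 0, 0, 0, 0, 0, 0, 0, 0, 0, 0, 0, 0, 0, -1, -1, -1, -1, -1, 0, 0, 0, 0, 0, -1, -1, -1, -1, -1, -1, -1, -1, -1, -1, 2, 1, 1, 1, 1, 1, 1, 1, 1, 1, 1,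 1, 1, 1, 1, 1, 0, 0, 0, 0, 0, 0, 0, 0, 0, 0, 0, 0, 0, 0, 0, -1, 1, 0], #[0, 0, 0, 0, -1, -1, -1, -1, 1, 1, 1, 1, 0, 0, 0, 0, 0, 0, 0, 0, 0, 0, 0, 0, -1, -1, -1, -1, 1, 1, 1, 1, 0, 0, 0, 0, 0, 0, 0, 0, -1, -1, -1, -1, -1, -1, -1, -1, -2, 1, 1, 1, 1, 0, 1, 1, 1, 1, 0, 0, 0, 0, 0, 0, 0, 0, 0, 0, 0, 0, -1, -1, -1, -1, 0, -1, -1, -1, -1, 2, 1, 1, 1, 1, 1, 1, 1, 1, 0, 0, 0, 0, 0, 0, 0, 0, -1, -1, -1, -1, 1, 1, 1, 1, 0, 0, 0, 0, 0, 0, 0, 0, 0, 0, 0, 0, -1, -1, -1, -1, 1, 1, 1, 1, 0, 0, 0, 0], #[0, 0, -1, 1, 0, 0, 0, 0, 0, 0, 0, 0, -1, -1, -1, -1, -1, -1, 1, 1, 1, 1, 1, 1, 0, 0, 0, 0, 0, 0, 0, 0, -1, 1, 0, 0, 0, 0, 0, 0, -1, -1, -1, -1, 1, 1, 1, 1, 0, -1, -1, -1, -1, -2, 1, 1, 1, 1, 0, 0, 0, 0, 0, 0, 0, 0, 0, 0, 0, 0, -1, -1, -1, -1, 2, 1, 1, 1, 1, 0, -1, -1, -1, -1, 1, 1, 1, 1, 0, 0, 0, 0, 0, 0, -1, 1, 0, 0, 0, 0, 0, 0,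 0, 0, -1, -1, -1, -1, -1, -1, 1, 1, 1, 1, 1, 1, 0, 0, 0, 0, 0, 0, 0, 0, -1, 1, 0, 0], #[0, 0, 0, -1, 1, 0, 0, 0, 0, -1, -1, -1, 1, 1, 1, 0, 0, 0, 0, 0, 0, -1, -1, -1, 1, 1, 1, 0, 0, 0, 0, -1, 1, 0, 0, 0, 0, -1, -1, -1, 1, 1, 1, 0, 0, 0, 0, -1, 1, 0, 0, 0, -1, 1, -1, -1, -1, -2, 1, 1, 1, 0, 0, 0, 0, 0, 0, -1, -1, -1, 2, 1, 1, 1, -1, 1, 0, 0, 0, -1, 1, 0, 0, 0, 0, -1, -1, -1, 1, 1, 1, 0, 0, 0, 0, -1, 1, 0, 0, 0, 0, -1, -1, -1, 1, 1, 1, 0, 0, 0, 0, 0, 0, -1, -1, -1, 1, 1, 1, 0, 0, 0, 0, -1, 1, 0, 0, 0], #[0, 0, 0, 0, -1, 1, 0, 0, -1, 1, 0, 0, 0, -1, -1, 1, 1, 0, 0, -1, -1, 1, 1, 0, 0, 0, -1, 1, 0, 0, -1, 1, 0, 0, 0, -1, -1, 1, 1, 0, 0, 0, -1, 1, 0, 0, -1, 1, 0, 0, 0, -1, 1, 0, 0, 0, -1, 1, -1, -1, -2, 1, 1, 0, 0, -1, -1, 2, 1, 1, -1, 1, 0, 0, 0, -1, 1, 0, 0, 0, -1, 1, 0, 0, -1, 1, 0, 0, 0, -1, -1, 1, 1, 0, 0, 0, -1,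 1, 0, 0, -1, 1, 0, 0, 0, -1, -1, 1, 1, 0, 0, -1, -1, 1, 1, 0, 0, 0, -1, 1, 0, 0, -1, 1, 0, 0, 0, 0], #[0, 0, 0, 0, 0, -1, 1, 0, 0, -1, 1, 0, -1, 1, 0, 0, -1, 1, -1, 1, 0, 0, -1, 1, 0, -1, 1, 0, 0, -1, 1, 0, 0, 0, -1, 1, 0, 0, -1, 1, 0, -1, 1, 0, 0, -1, 1, 0, 0, 0, -1, 1, 0, 0, 0, -1, 1, 0, 0, -1, 1, -1, -2, 1, -1, 2, 1, -1, 1, 0, 0, -1, 1, 0, 0, 0, -1, 1, 0, 0, 0, -1, 1, 0, 0, -1, 1, 0, -1, 1, 0, 0, -1, 1, 0, 0, 0, -1, 1, 0, 0, -1, 1, 0, -1, 1, 0, 0, -1, 1, -1, 1, 0, 0, -1, 1, 0, -1, 1, 0, 0, -1, 1, 0, 0, 0, 0, 0], #[0, 0, 0, 0, 0, 0, -1, 1, 0, 0, -1, 1, 0, -1, 1, -1, 1, 0, 0, -1, 1, -1, 1, 0, -1, 1, 0, 0, -1, 1, 0, 0, 0, 0, 0, -1, 1, -1, 1, 0, -1, 1, 0, 0, -1, 1, 0, 0, 0, -1, 1, 0, 0, 0, -1, 1, 0, 0, -1, 1, 0, -1, 1, -2, 2, -1, 1, 0, -1, 1, 0, 0, -1, 1, 0, 0, 0, -1, 1, 0, 0, 0, -1, 1, 0, 0, -1, 1, 0, -1, 1, -1,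 1, 0, 0, 0, 0, 0, -1, 1, 0, 0, -1, 1, 0, -1, 1, -1, 1, 0, 0, -1, 1, -1, 1, 0, -1, 1, 0, 0, -1, 1, 0, 0, 0, 0, 0, 0]]

/-- Chains of the roots of pattern A. -/
def chainA : Array (Array (ℕ × Array (ℕ × ℤ))) :=
  #[#[], #[], #[], #[], #[], #[], #[], #[], #[], #[], #[], #[], #[], #[], #[], #[], #[], #[], #[], #[], #[], #[], #[], #[], #[], #[], #[], #[], #[], #[], #[], #[], #[], chainA33, #[], #[], #[], #[], #[], #[], #[], #[], #[], #[], #[], #[], #[], #[], chainA48, #[], #[], #[], #[], chainA53, #[], #[], #[], chainA57, #[], #[], chainA60, #[], chainA62, chainA63, chainA64, chainA65, #[], chainA67, #[], #[], chainA70, #[], #[], #[], chainA74, #[], #[], #[], #[], chainA79, #[], #[], #[], #[], #[], #[], #[], #[], #[], #[], #[], #[], #[], #[], chainA94, #[], #[], #[], #[], #[], #[], #[], #[], #[], #[], #[], #[], #[], #[],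 #[], #[], #[], #[], #[], #[], #[], #[], #[], #[], #[], #[], #[], #[], #[], #[], #[], #[], #[]]

/-- The sign pattern A. -/
def maskA : Mask chevE8 := listMask chevE8 [0, 0, 0, 0, 0, 0, 0, 1]

/-- The roots fixed by the pattern A, as a datum. -/
def datumA : ChevalleyDatum where
  rank := 8
  nroots := 128
  simpleIdx := #[127, 94, 79, 74, 70, 67, 65, 64]
  negIdx := #[127, 126, 125, 124, 123, 122, 121, 120, 119, 118, 117, 116, 115, 114, 113, 112, 111, 110, 109, 108, 107, 106, 105, 104, 103, 102, 101, 100, 99, 98, 97, 96, 95, 94, 93, 92, 91, 90, 89, 88, 87, 86, 85, 84, 83, 82, 81, 80, 79, 78, 77, 76, 75, 74, 73, 72, 71, 70, 69, 68, 67, 66, 65, 64, 63, 62, 61, 60, 59, 58, 57, 56, 55, 54, 53, 52, 51, 50, 49, 48, 47, 46, 45, 44, 43, 42, 41, 40, 39, 38, 37, 36, 35, 34, 33, 32, 31, 30, 29, 28, 27, 26, 25, 24, 23, 22, 21,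 20, 19, 18, 17, 16, 15, 14, 13, 12, 11, 10, 9, 8, 7, 6, 5, 4, 3, 2, 1, 0]
  coroot := corootA
  cartanSR := cartanA
  chain := chainA

/-- Packed coefficient columns of the roots of pattern A. -/
def coefA : List ℕ :=
  [0x98888888888888888888888888888888888888888888888888888888888888888888888888888888888888888888888888888888888888888888888888888887, 0x8a999999999999999999999999999999998888888888888888888888888888888888888888888888888888888888887777777777777777777777777777777768, 0x8aaaaaaa999999999999999999998888889999999999999998888888888888888888888888888887777777777777778888887777777777777777777766666668, 0x8bbaaaaaaaaaaaaaaa99999999999999989999999999888889999988888888888888888888777778888877777777778777777777777777666666666666666558, 0x8cccbbbbbbbbaaaaaaaaaaaa9999999988aaaaaa9999999989999899998888888888887777877778777777776666668877777777666666666666555555554448,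 0x8bbbbaaabaaaaaa999aaa9999998999888aaa9999998999889998899989998888887778777887778877787777776668887778777777666777666666566655558, 0x8aaaaa99aa99a99998a999989988998888a999989988998889988899889989988778778877888778887788778777768888778877877776877776776677666668, 0x89999998999899898899898898889888889989889888988889888898889889897878878887888878888788878878778888878887887877887877877787777778]

/-- Packed keys of the roots of pattern A. -/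
def keyA : ℕ :=
  0x800004000000000080000020831030818000001083103081800000108210308180000010820c308180000010820c208180000010820c204180000010820c204080000010420c308180000010420c208180000010420c204180000010420c204080000010420820818000001042082041800000104208204080000010420810418000001042081040800000104208100080000010410820818000001041082041800000104108204080000010410810418000001041081040800000104108100080000010410410418000001041041040800000104104100080000010410400008000001001041041800000100104104080000010010410008000001001040000800000100100000080000010000000008000000041082081800000004108204180000000410820408000000041081041800000004108104080000000410810008000000041041041800000004104104080000000410410008000000041040000800000004004104180000000400410408000000040041000800000004004000080000000400000008000000001041041800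000000104104080000000010410008000000001040000800000000100000080000000000410418000000000041040800000000004100080000000000400008000000000001041800000000000104080000000000010008000000000000041800000000000004080000000000000017fffffffffffffff7fffffffffffffc07fffffffffffffbf7ffffffffffff0007fffffffffffefc07fffffffffffefbf7ffffffffffc00007ffffffffffbf0007ffffffffffbefc07ffffffffffbefbf7fffffffff0000007ffffffffefc00007ffffffffefbf0007ffffffffefbefc07ffffffffefbefbf7fffffffc00000007fffffffbffc00007fffffffbffbf0007fffffffbffbefc07fffffffbffbefbf7fffffffbefc00007fffffffbefbf0007fffffffbefbefc07fffffffbefbefbf7fffffffbef7f0007fffffffbef7efc07fffffffbef7efbf7fffffffbef7dfc07fffffffbef7dfbf7fffffffbef7df7f7ffffff0000000007fffffefff0000007fffffeffefc00007fffffeffefbf0007fffffeffefbefc07fffffeffefbefbf7fffffefbefc00007fffffefbef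bf0007fffffefbefbefc07fffffefbefbefbf7fffffefbef7f0007fffffefbef7efc07fffffefbef7efbf7fffffefbef7dfc07fffffefbef7dfbf7fffffefbef7df7f7fffffefbdf7f0007fffffefbdf7efc07fffffefbdf7efbf7fffffefbdf7dfc07fffffefbdf7dfbf7fffffefbdf7df7f7fffffefbdf3dfc07fffffefbdf3dfbf7fffffefbdf3df7f7fffffefbdf3cf7f7fffffef7df3dfc07fffffef7df3dfbf7fffffef7df3df7f7fffffef7df3cf7f7fffffef7defcf7f7fffffef7cefcf7f7fffffdf7cefcf7f7ffffc0000000000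

theorem rootCheckA : rootCheck datumA (packedCoef datumA.rank coefA) keyA = true := by decide +kernel

/-- Root data of the roots of pattern A. -/
def rootDataA : RootData datumA := RootData.ofCheck _ _ rootCheckA

/-- The tables of pattern A. -/
def tablesA : Tables chevE8 datumA where
  ι := [0, 13, 20, 25, 29, 32, 34, 35, 39, 42, 44, 45, 48, 50, 51, 53, 54, 55, 58, 60, 61, 63, 64, 65, 67, 68, 69, 70, 72, 73, 74, 75, 76, 77, 80, 82, 83, 85, 86, 87, 89, 90, 91, 92, 94, 95, 96, 97, 98, 100, 101, 102, 103, 104, 106, 107, 108, 109, 111, 112, 113, 115, 116, 118, 121, 123, 124, 126, 127, 128, 130, 131, 132, 133, 135, 136, 137, 138, 139, 141, 142, 143, 144, 145, 147, 148, 149, 150, 152, 153, 154, 156, 157, 159, 162, 163, 164, 165, 166, 167, 169, 170, 171, 172, 174, 175, 176, 178, 179, 181, 184, 185, 186, 188, 189, 191,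 194, 195, 197, 200, 204, 205, 207, 210, 214, 219, 226, 239]
  κ := [0, 0, 0, 0, 0, 0, 0, 0, 0, 0, 0, 0, 0, 1, 0, 0, 0, 0, 0, 0, 2, 0, 0, 0, 0, 3, 0, 0, 0, 4, 0, 0, 5, 0, 6, 7, 0, 0, 0, 8, 0, 0, 9, 0, 10, 11, 0, 0, 12, 0, 13, 14, 0, 15, 16, 17, 0, 0, 18, 0, 19, 20, 0, 21, 22, 23, 0, 24, 25, 26, 27, 0, 28, 29, 30, 31, 32, 33, 0, 0, 34, 0, 35, 36, 0, 37, 38, 39, 0, 40, 41, 42, 43, 0, 44, 45, 46, 47, 48, 0, 49, 50, 51, 52, 53, 0, 54, 55, 56, 57, 0, 58, 59, 60, 0, 61, 62, 0, 63, 0, 0, 64, 0, 65, 66, 0, 67, 68, 69, 0, 70, 71, 72, 73, 0, 74, 75, 76, 77, 78, 0, 79, 80, 81, 82, 83, 0, 84, 85, 86, 87, 0, 88, 89, 90, 0, 91, 92, 0, 93, 0, 0, 94, 95, 96, 97, 98, 99, 0, 100, 101, 102, 103, 0, 104, 105, 106, 0, 107, 108, 0, 109, 0, 0, 110, 111, 112, 0, 113, 114, 0, 115, 0, 0, 116, 117, 0, 118, 0, 0, 119, 0, 0, 0, 120, 121, 0, 122,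 0, 0, 123, 0, 0, 0, 124, 0, 0, 0, 0, 125, 0, 0, 0, 0, 0, 0, 126, 0, 0, 0, 0, 0, 0, 0, 0, 0, 0, 0, 0, 127]
  word := [[7, 6, 5, 4, 3, 1, 2, 0, 3, 2, 4, 3, 1, 5, 4, 3, 2, 0, 6, 5, 4, 3, 1, 2, 3, 4, 5, 6], [], [], [], [], [], [], []]
  node := [7, 0, 1, 2, 3, 4, 5, 6]
  B := [[2, 3, 4, 6, 5, 4, 3, 2], [4, 4, 6, 8, 6, 4, 2, 0], [4, 7, 8, 12, 9, 6, 3, 0], [6, 8, 12, 16, 12, 8, 4, 0], [8, 12, 16, 24, 18, 12, 6, 0], [6, 9, 12, 18, 15, 10, 5, 0], [4, 6, 8, 12, 10, 8, 4, 0], [2, 3, 4, 6, 5, 4, 3, 0]]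
  d := 2
  Q := [[0, 2, 0, 0, 0, 0, 0, 0], [0, 0, 2, 0, 0, 0, 0, 0], [0, 0, 0, 2, 0, 0, 0, 0], [0, 0, 0, 0, 2, 0, 0, 0], [0, 0, 0, 0, 0, 2, 0, 0], [0, 0, 0, 0, 0, 0, 2, 0], [0, 0, 0, 0, 0, 0, 0, 2], [1, -2, -3, -4, -6, -5, -4, -3]]
  e := 2

/-- The orbit of the pattern A, each entry a flip of an earlier one. -/
def orbitA : List (Mask chevE8 × Fin chevE8.rank) :=
  [(listMask chevE8 [0, 0, 0, 0, 0, 0, 1, 1], ⟨7, by decide⟩), (listMask chevE8 [0, 0, 0, 0, 0, 1, 1, 0], ⟨6, by decide⟩), (listMask chevE8 [0, 0, 0, 0, 1, 1, 0, 0], ⟨5, by decide⟩), (listMask chevE8 [0, 0, 0, 1, 1, 0, 0, 0], ⟨4, by decide⟩), (listMask chevE8 [0, 1, 1, 1, 0, 0, 0, 0], ⟨3, by decide⟩), (listMask chevE8 [0, 1, 1, 0, 0, 0, 0, 0], ⟨1, by decide⟩), (listMask chevE8 [1, 1, 1, 0, 0, 0, 0, 0], ⟨2, by decide⟩), (listMask chevE8 [1, 1, 1, 1, 0, 0,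 0, 0], ⟨2, by decide⟩), (listMask chevE8 [1, 1, 0, 0, 0, 0, 0, 0], ⟨0, by decide⟩), (listMask chevE8 [1, 1, 0, 1, 0, 0, 0, 0], ⟨0, by decide⟩), (listMask chevE8 [1, 0, 0, 1, 1, 0, 0, 0], ⟨3, by decide⟩), (listMask chevE8 [1, 0, 1, 1, 1, 0, 0, 0], ⟨3, by decide⟩), (listMask chevE8 [1, 0, 0, 0, 1, 1, 0, 0], ⟨4, by decide⟩), (listMask chevE8 [0, 0, 1, 0, 1, 0, 0, 0], ⟨2, by decide⟩), (listMask chevE8 [1, 0, 1, 0, 1, 1, 0, 0], ⟨4, by decide⟩), (listMask chevE8 [1, 0, 0, 0, 0, 1, 1, 0], ⟨5, by decide⟩), (listMask chevE8 [0, 0, 1, 1, 1, 1, 0, 0], ⟨4, by decide⟩), (listMask chevE8 [1, 0, 1, 0, 0, 1, 1, 0], ⟨5, by decide⟩), (listMask chevE8 [1, 0, 0, 0, 0, 0, 1, 1], ⟨6, by decide⟩), (listMask chevE8 [0, 1, 0, 1, 0, 1, 0, 0], ⟨3, by decide⟩), (listMask chevE8 [0, 0, 1, 1, 0, 1, 1, 0], ⟨5, by decide⟩), (listMask chevE8 [1,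 0, 1, 0, 0, 0, 1, 1], ⟨6, by decide⟩), (listMask chevE8 [1, 0, 0, 0, 0, 0, 0, 1], ⟨7, by decide⟩), (listMask chevE8 [0, 1, 0, 0, 0, 1, 0, 0], ⟨1, by decide⟩), (listMask chevE8 [0, 1, 0, 1, 1, 1, 1, 0], ⟨5, by decide⟩), (listMask chevE8 [0, 0, 1, 1, 0, 0, 1, 1], ⟨6, by decide⟩), (listMask chevE8 [1, 0, 1, 0, 0, 0, 0, 1], ⟨7, by decide⟩), (listMask chevE8 [0, 1, 0, 0, 1, 1, 1, 0], ⟨5, by decide⟩), (listMask chevE8 [0, 1, 0, 0, 1, 0, 1, 0], ⟨4, by decide⟩), (listMask chevE8 [0, 1, 0, 1, 1, 0, 1, 1], ⟨6, by decide⟩), (listMask chevE8 [0, 0, 1, 1, 0, 0, 0, 1], ⟨7, by decide⟩), (listMask chevE8 [0, 1, 0, 1, 1, 0, 1, 0], ⟨4, by decide⟩), (listMask chevE8 [0, 1, 0, 0, 1, 0, 1, 1], ⟨6, by decide⟩), (listMask chevE8 [0, 1, 0, 0, 1, 1, 1, 1], ⟨6, by decide⟩), (listMask chevE8 [0, 1, 0, 1, 1, 0, 0, 1], ⟨7, by decide⟩), (listMask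 chevE8 [0, 0, 1, 1, 0, 0, 1, 0], ⟨3, by decide⟩), (listMask chevE8 [0, 1, 0, 1, 1, 1, 1, 1], ⟨6, by decide⟩), (listMask chevE8 [0, 1, 0, 0, 1, 0, 0, 1], ⟨7, by decide⟩), (listMask chevE8 [0, 1, 0, 0, 0, 1, 0, 1], ⟨5, by decide⟩), (listMask chevE8 [0, 1, 0, 0, 1, 1, 0, 1], ⟨7, by decide⟩), (listMask chevE8 [1, 0, 1, 0, 0, 0, 1, 0], ⟨2, by decide⟩), (listMask chevE8 [0, 0, 1, 1, 0, 1, 1, 1], ⟨6, by decide⟩), (listMask chevE8 [0, 1, 0, 1, 0, 1, 0, 1], ⟨5, by decide⟩), (listMask chevE8 [0, 1, 0, 1, 1, 1, 0, 1], ⟨7, by decide⟩), (listMask chevE8 [0, 1, 0, 0, 0, 1, 1, 1], ⟨7, by decide⟩), (listMask chevE8 [1, 0, 0, 0, 0, 0, 1, 0], ⟨0, by decide⟩), (listMask chevE8 [1, 0, 1, 0, 0, 1, 1, 1], ⟨6, by decide⟩), (listMask chevE8 [0, 0, 1, 1, 1, 1, 0, 1], ⟨5, by decide⟩), (listMask chevE8 [0, 0, 1, 1, 0, 1, 0, 1], ⟨7, by decide⟩),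 (listMask chevE8 [0, 1, 0, 1, 0, 1, 1, 1], ⟨7, by decide⟩), (listMask chevE8 [0, 1, 0, 0, 0, 0, 1, 0], ⟨6, by decide⟩), (listMask chevE8 [1, 0, 0, 0, 0, 1, 1, 1], ⟨6, by decide⟩), (listMask chevE8 [1, 0, 1, 0, 1, 1, 0, 1], ⟨5, by decide⟩), (listMask chevE8 [1, 0, 1, 0, 0, 1, 0, 1], ⟨7, by decide⟩), (listMask chevE8 [0, 0, 1, 0, 1, 0, 0, 1], ⟨4, by decide⟩), (listMask chevE8 [0, 0, 1, 1, 1, 1, 1, 1], ⟨7, by decide⟩), (listMask chevE8 [0, 1, 0, 1, 0, 0, 1, 0], ⟨6, by decide⟩), (listMask chevE8 [1, 0, 0, 0, 1, 1, 0, 1], ⟨5, by decide⟩), (listMask chevE8 [1, 0, 0, 0, 0, 1, 0, 1], ⟨7, by decide⟩), (listMask chevE8 [1, 0, 1, 1, 1, 0, 0, 1], ⟨4, by decide⟩), (listMask chevE8 [1, 0, 1, 0, 1, 1, 1, 1], ⟨7, by decide⟩), (listMask chevE8 [0, 0, 1, 0, 1, 0, 1, 1], ⟨7, by decide⟩), (listMask chevE8 [0, 0, 1, 1, 1, 0, 1, 0], ⟨6,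 by decide⟩), (listMask chevE8 [1, 0, 0, 1, 1, 0, 0, 1], ⟨4, by decide⟩), (listMask chevE8 [1, 0, 0, 0, 1, 1, 1, 1], ⟨7, by decide⟩), (listMask chevE8 [1, 1, 0, 1, 0, 0, 0, 1], ⟨3, by decide⟩), (listMask chevE8 [1, 0, 1, 1, 1, 0, 1, 1], ⟨7, by decide⟩), (listMask chevE8 [1, 0, 1, 0, 1, 0, 1, 0], ⟨6, by decide⟩), (listMask chevE8 [0, 0, 1, 0, 1, 1, 1, 0], ⟨6, by decide⟩), (listMask chevE8 [1, 1, 1, 1, 0, 0, 0, 1], ⟨3, by decide⟩), (listMask chevE8 [1, 0, 0, 1, 1, 0, 1, 1], ⟨7, by decide⟩), (listMask chevE8 [1, 0, 0, 0, 1, 0, 1, 0], ⟨6, by decide⟩), (listMask chevE8 [1, 1, 0, 0, 0, 0, 0, 1], ⟨1, by decide⟩), (listMask chevE8 [1, 1, 0, 1, 0, 0, 1, 1], ⟨7, by decide⟩), (listMask chevE8 [1, 0, 1, 1, 1, 1, 1, 0], ⟨6, by decide⟩), (listMask chevE8 [0, 0, 1, 0, 0, 1, 0, 0], ⟨5, by decide⟩), (listMask chevE8 [1, 1, 1, 0, 0,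 0, 0, 1], ⟨1, by decide⟩), (listMask chevE8 [0, 1, 1, 0, 0, 0, 0, 1], ⟨2, by decide⟩), (listMask chevE8 [1, 1, 1, 1, 0, 0, 1, 1], ⟨7, by decide⟩), (listMask chevE8 [1, 0, 0, 1, 1, 1, 1, 0], ⟨6, by decide⟩), (listMask chevE8 [1, 1, 0, 0, 0, 0, 1, 1], ⟨7, by decide⟩), (listMask chevE8 [1, 1, 0, 1, 0, 1, 1, 0], ⟨6, by decide⟩), (listMask chevE8 [1, 0, 1, 1, 0, 1, 0, 0], ⟨5, by decide⟩), (listMask chevE8 [0, 1, 1, 1, 0, 0, 0, 1], ⟨2, by decide⟩), (listMask chevE8 [1, 1, 1, 0, 0, 0, 1, 1], ⟨7, by decide⟩), (listMask chevE8 [0, 1, 1, 0, 0, 0, 1, 1], ⟨7, by decide⟩), (listMask chevE8 [1, 1, 1, 1, 0, 1, 1, 0], ⟨6, by decide⟩), (listMask chevE8 [1, 0, 0, 1, 0, 1, 0, 0], ⟨5, by decide⟩), (listMask chevE8 [1, 1, 0, 0, 0, 1, 1, 0], ⟨6, by decide⟩), (listMask chevE8 [1, 1, 0, 1, 1, 1, 0, 0], ⟨5, by decide⟩), (listMask chevE8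 [0, 0, 0, 1, 1, 0, 0, 1], ⟨3, by decide⟩), (listMask chevE8 [0, 1, 1, 1, 0, 0, 1, 1], ⟨7, by decide⟩), (listMask chevE8 [1, 1, 1, 0, 0, 1, 1, 0], ⟨6, by decide⟩), (listMask chevE8 [0, 1, 1, 0, 0, 1, 1, 0], ⟨6, by decide⟩), (listMask chevE8 [1, 1, 1, 1, 1, 1, 0, 0], ⟨5, by decide⟩), (listMask chevE8 [1, 1, 0, 0, 1, 1, 0, 0], ⟨5, by decide⟩), (listMask chevE8 [1, 1, 0, 0, 1, 0, 0, 0], ⟨4, by decide⟩), (listMask chevE8 [0, 0, 0, 0, 1, 1, 0, 1], ⟨4, by decide⟩), (listMask chevE8 [0, 0, 0, 1, 1, 0, 1, 1], ⟨7, by decide⟩), (listMask chevE8 [0, 1, 1, 1, 0, 1, 1, 0], ⟨6, by decide⟩), (listMask chevE8 [1, 1, 1, 0, 1, 1, 0, 0], ⟨5, by decide⟩), (listMask chevE8 [0, 1, 1, 0, 1, 1, 0, 0], ⟨5, by decide⟩), (listMask chevE8 [1, 1, 1, 0, 1, 0, 0, 0], ⟨4, by decide⟩), (listMask chevE8 [1, 1, 0, 1, 1, 0, 0, 0], ⟨4, by decide⟩), (listMask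 chevE8 [0, 0, 0, 0, 0, 1, 1, 1], ⟨5, by decide⟩), (listMask chevE8 [0, 0, 0, 0, 1, 1, 1, 1], ⟨7, by decide⟩), (listMask chevE8 [0, 0, 0, 1, 1, 1, 1, 0], ⟨6, by decide⟩), (listMask chevE8 [0, 1, 1, 1, 1, 1, 0, 0], ⟨5, by decide⟩), (listMask chevE8 [1, 1, 1, 1, 1, 0, 0, 0], ⟨4, by decide⟩), (listMask chevE8 [0, 1, 1, 1, 1, 0, 0, 0], ⟨4, by decide⟩), (listMask chevE8 [1, 0, 1, 1, 0, 0, 0, 0], ⟨3, by decide⟩), (listMask chevE8 [0, 0, 0, 0, 0, 0, 1, 0], ⟨6, by decide⟩), (listMask chevE8 [0, 0, 0, 0, 0, 1, 0, 1], ⟨7, by decide⟩), (listMask chevE8 [0, 0, 0, 0, 1, 0, 1, 0], ⟨6, by decide⟩), (listMask chevE8 [0, 0, 0, 1, 0, 1, 0, 0], ⟨5, by decide⟩), (listMask chevE8 [0, 1, 1, 0, 1, 0, 0, 0], ⟨4, by decide⟩), (listMask chevE8 [1, 0, 0, 1, 0, 0, 0, 0], ⟨3, by decide⟩), (listMask chevE8 [0, 0, 0, 1, 0, 0, 0, 0], ⟨3, by decide⟩),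 (listMask chevE8 [0, 0, 1, 0, 0, 0, 0, 0], ⟨2, by decide⟩)]

end CfsgLib.ExcInvol.E8
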