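import Cfsg.Agent.Lib.ExcInvol.TablesE8

/-!
Tables for the class of sign patterns of type E8 fixing roots of type D8.
-/

set_option autoImplicit false
set_option maxHeartbeats 4000000

namespace CfsgLib.ExcInvol.E8

open Cfsg.Lie CfsgLib.ChevStr

/-- Chains of the root 37 of pattern B. -/
def chainB37 : Array (ℕ × Array (ℕ × ℤ)) := #[(6, #[(3, 1)]), (7, #[(4, 1)]), (8, #[(5, 1)]), (38, #[(27, 1)]), (39, #[(28, 1)]), (40, #[(29, 1)]), (41, #[(31, 1)]), (42, #[(32, 1)]), (43, #[(33, 1)]), (47, #[(34, 1)]), (48, #[(35, 1)]), (49, #[(36, 1)]), (75, #[(62, 1)]), (76, #[(63, 1)]), (77, #[(64, 1)]), (78, #[(68, 1)]), (79, #[(69, 1)]), (80, #[(70, 1)]), (82, #[(71, 1)]), (83, #[(72, 1)]), (84, #[(73, 1)]), (106, #[(103, 1)]), (107, #[(104, 1)]), (108, #[(105, 1)])]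

/-- Chains of the root 40 of pattern B. -/
def chainB40 : Array (ℕ × Array (ℕ × ℤ)) := #[(3, #[(1, 1)]), (4, #[(2, 1)]), (30, #[(8, 1)]), (31, #[(11, 1)]), (32, #[(14, 1)]), (33, #[(17, 1)]), (34, #[(20, 1)]), (35, #[(23, 1)]), (36, #[(26, 1)]), (37, #[(29, 1)]), (53, #[(38, 1)]), (55, #[(39, 1)]), (72, #[(56, 1)]), (73, #[(58, 1)]), (82, #[(74, 1)]), (85, #[(75, 1)]), (88, #[(76, 1)]), (91, #[(77, 1)]), (94, #[(78, 1)]), (97, #[(79, 1)]), (100, #[(80, 1)]), (103, #[(81, 1)]), (109, #[(107, 1)]), (110, #[(108, 1)])]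

/-- Chains of the root 46 of pattern B. -/
def chainB46 : Array (ℕ × Array (ℕ × ℤ)) := #[(18, #[(12, 1)]), (19, #[(13, 1)]), (20, #[(14, 1)]), (21, #[(15, 1)]), (22, #[(16, 1)]), (23, #[(17, 1)]), (34, #[(32, 1)]), (35, #[(33, 1)]), (47, #[(42, 1)]), (48, #[(43, 1)]), (50, #[(44, 1)]), (51, #[(45, 1)]), (66, #[(60, 1)]), (67, #[(61, 1)]), (68, #[(63, 1)]), (69, #[(64, 1)]), (78, #[(76, 1)]), (79, #[(77, 1)]), (94, #[(88, 1)]), (95, #[(89, 1)]), (96, #[(90, 1)]), (97, #[(91, 1)]), (98, #[(92, 1)]), (99, #[(93, 1)])]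

/-- Chains of the root 49 of pattern B. -/
def chainB49 : Array (ℕ × Array (ℕ × ℤ)) := #[(9, #[(6, 1)]), (10, #[(7, 1)]), (11, #[(8, 1)]), (27, #[(24, 1)]), (28, #[(25, 1)]), (29, #[(26, 1)]), (31, #[(30, 1)]), (37, #[(36, 1)]), (44, #[(42, 1)]), (45, #[(43, 1)]), (50, #[(47, 1)]), (51, #[(48, 1)]), (63, #[(60, 1)]), (64, #[(61, 1)]), (68, #[(66, 1)]), (69, #[(67, 1)]), (75, #[(74, 1)]), (81, #[(80, 1)]), (85, #[(82, 1)]), (86, #[(83, 1)]), (87, #[(84, 1)]), (103, #[(100, 1)]), (104, #[(101, 1)]), (105, #[(102, 1)])]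

/-- Chains of the root 51 of pattern B. -/
def chainB51 : Array (ℕ × Array (ℕ × ℤ)) := #[(12, #[(9, 1)]), (13, #[(10, 1)]), (14, #[(11, 1)]), (24, #[(21, 1)]), (25, #[(22, 1)]), (26, #[(23, 1)]), (32, #[(31, 1)]), (36, #[(35, 1)]), (42, #[(41, 1)]), (46, #[(45, 1)]), (49, #[(48, 1)]), (52, #[(50, 1)]), (61, #[(59, 1)]), (63, #[(62, 1)]), (66, #[(65, 1)]), (70, #[(69, 1)]), (76, #[(75, 1)]), (80, #[(79, 1)]), (88, #[(85, 1)]), (89, #[(86, 1)]), (90, #[(87, 1)]), (100, #[(97, 1)]), (101, #[(98, 1)]), (102, #[(99, 1)])]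

/-- Chains of the root 52 of pattern B. -/
def chainB52 : Array (ℕ × Array (ℕ × ℤ)) := #[(15, #[(12, 1)]), (16, #[(13, 1)]), (17, #[(14, 1)]), (21, #[(18, 1)]), (22, #[(19, 1)]), (23, #[(20, 1)]), (33, #[(32, 1)]), (35, #[(34, 1)]), (43, #[(42, 1)]), (45, #[(44, 1)]), (48, #[(47, 1)]), (51, #[(50, 1)]), (61, #[(60, 1)]), (64, #[(63, 1)]), (67, #[(66, 1)]), (69, #[(68, 1)]), (77, #[(76, 1)]), (79, #[(78, 1)]), (91, #[(88, 1)]), (92, #[(89, 1)]), (93, #[(90, 1)]), (97, #[(94, 1)]), (98, #[(95, 1)]), (99, #[(96, 1)])]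

/-- Chains of the root 54 of pattern B. -/
def chainB54 : Array (ℕ × Array (ℕ × ℤ)) := #[(2, #[(1, 1)]), (4, #[(3, 1)]), (7, #[(6, 1)]), (10, #[(9, 1)]), (13, #[(12, 1)]), (16, #[(15, 1)]), (19, #[(18, 1)]), (22, #[(21, 1)]), (25, #[(24, 1)]), (28, #[(27, 1)]), (39, #[(38, 1)]), (55, #[(53, 1)]), (58, #[(56, 1)]), (73, #[(72, 1)]), (84, #[(83, 1)]), (87, #[(86, 1)]), (90, #[(89, 1)]), (93, #[(92, 1)]), (96, #[(95, 1)]), (99, #[(98, 1)]), (102, #[(101, 1)]), (105, #[(104, 1)]), (108, #[(107, 1)]), (110, #[(109, 1)])]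

/-- Chains of the root 55 of pattern B. -/
def chainB55 : Array (ℕ × Array (ℕ × ℤ)) := #[(1, #[(0, 1)]), (5, #[(4, 1)]), (8, #[(7, 1)]), (11, #[(10, 1)]), (14, #[(13, 1)]), (17, #[(16, 1)]), (20, #[(19, 1)]), (23, #[(22, 1)]), (26, #[(25, 1)]), (29, #[(28, 1)]), (40, #[(39, 1)]), (54, #[(53, 1)]), (58, #[(57, 1)]), (72, #[(71, 1)]), (83, #[(82, 1)]), (86, #[(85, 1)]), (89, #[(88, 1)]), (92, #[(91, 1)]), (95, #[(94, 1)]), (98, #[(97, 1)]), (101, #[(100, 1)]), (104, #[(103, 1)]), (107, #[(106, 1)]), (111, #[(110, 1)])]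

/-- Chains of the root 56 of pattern B. -/
def chainB56 : Array (ℕ × Array (ℕ × ℤ)) := #[(0, #[(1, 1)]), (4, #[(5, 1)]), (7, #[(8, 1)]), (10, #[(11, 1)]), (13, #[(14, 1)]), (16, #[(17, 1)]), (19, #[(20, 1)]), (22, #[(23, 1)]), (25, #[(26, 1)]), (28, #[(29, 1)]), (39, #[(40, 1)]), (53, #[(54, 1)]), (57, #[(58, 1)]), (71, #[(72, 1)]), (82, #[(83, 1)]), (85, #[(86, 1)]), (88, #[(89, 1)]), (91, #[(92, 1)]), (94, #[(95, 1)]), (97, #[(98, 1)]), (100, #[(101, 1)]), (103, #[(104, 1)]), (106, #[(107, 1)]), (110, #[(111, 1)])]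

/-- Chains of the root 57 of pattern B. -/
def chainB57 : Array (ℕ × Array (ℕ × ℤ)) := #[(1, #[(2, 1)]), (3, #[(4, 1)]), (6, #[(7, 1)]), (9, #[(10, 1)]), (12, #[(13, 1)]), (15, #[(16, 1)]), (18, #[(19, 1)]), (21, #[(22, 1)]), (24, #[(25, 1)]), (27, #[(28, 1)]), (38, #[(39, 1)]), (53, #[(55, 1)]), (56, #[(58, 1)]), (72, #[(73, 1)]), (83, #[(84, 1)]), (86, #[(87, 1)]), (89, #[(90, 1)]), (92, #[(93, 1)]), (95, #[(96, 1)]), (98, #[(99, 1)]), (101, #[(102, 1)]), (104, #[(105, 1)]), (107, #[(108, 1)]), (109, #[(110, 1)])]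

/-- Chains of the root 59 of pattern B. -/
def chainB59 : Array (ℕ × Array (ℕ × ℤ)) := #[(12, #[(15, 1)]), (13, #[(16, 1)]), (14, #[(17, 1)]), (18, #[(21, 1)]), (19, #[(22, 1)]), (20, #[(23, 1)]), (32, #[(33, 1)]), (34, #[(35, 1)]), (42, #[(43, 1)]), (44, #[(45, 1)]), (47, #[(48, 1)]), (50, #[(51, 1)]), (60, #[(61, 1)]), (63, #[(64, 1)]), (66, #[(67, 1)]), (68, #[(69, 1)]), (76, #[(77, 1)]), (78, #[(79, 1)]), (88, #[(91, 1)]), (89, #[(92, 1)]), (90, #[(93, 1)]), (94, #[(97, 1)]), (95, #[(98, 1)]), (96, #[(99, 1)])]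

/-- Chains of the root 60 of pattern B. -/
def chainB60 : Array (ℕ × Array (ℕ × ℤ)) := #[(9, #[(12, 1)]), (10, #[(13, 1)]), (11, #[(14, 1)]), (21, #[(24, 1)]), (22, #[(25, 1)]), (23, #[(26, 1)]), (31, #[(32, 1)]), (35, #[(36, 1)]), (41, #[(42, 1)]), (45, #[(46, 1)]), (48, #[(49, 1)]), (50, #[(52, 1)]), (59, #[(61, 1)]), (62, #[(63, 1)]), (65, #[(66, 1)]), (69, #[(70, 1)]), (75, #[(76, 1)]), (79, #[(80, 1)]), (85, #[(88, 1)]), (86, #[(89, 1)]), (87, #[(90, 1)]), (97, #[(100, 1)]), (98, #[(101, 1)]), (99, #[(102, 1)])]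

/-- Chains of the root 62 of pattern B. -/
def chainB62 : Array (ℕ × Array (ℕ × ℤ)) := #[(6, #[(9, 1)]), (7, #[(10, 1)]), (8, #[(11, 1)]), (24, #[(27, 1)]), (25, #[(28, 1)]), (26, #[(29, 1)]), (30, #[(31, 1)]), (36, #[(37, 1)]), (42, #[(44, 1)]), (43, #[(45, 1)]), (47, #[(50, 1)]), (48, #[(51, 1)]), (60, #[(63, 1)]), (61, #[(64, 1)]), (66, #[(68, 1)]), (67, #[(69, 1)]), (74, #[(75, 1)]), (80, #[(81, 1)]), (82, #[(85, 1)]), (83, #[(86, 1)]), (84, #[(87, 1)]), (100, #[(103, 1)]), (101, #[(104, 1)]), (102, #[(105, 1)])]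

/-- Chains of the root 65 of pattern B. -/
def chainB65 : Array (ℕ × Array (ℕ × ℤ)) := #[(12, #[(18, 1)]), (13, #[(19, 1)]), (14, #[(20, 1)]), (15, #[(21, 1)]), (16, #[(22, 1)]), (17, #[(23, 1)]), (32, #[(34, 1)]), (33, #[(35, 1)]), (42, #[(47, 1)]), (43, #[(48, 1)]), (44, #[(50, 1)]), (45, #[(51, 1)]), (60, #[(66, 1)]), (61, #[(67, 1)]), (63, #[(68, 1)]), (64, #[(69, 1)]), (76, #[(78, 1)]), (77, #[(79, 1)]), (88, #[(94, 1)]), (89, #[(95, 1)]), (90, #[(96, 1)]), (91, #[(97, 1)]), (92, #[(98, 1)]), (93, #[(99, 1)])]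

/-- Chains of the root 71 of pattern B. -/
def chainB71 : Array (ℕ × Array (ℕ × ℤ)) := #[(1, #[(3, 1)]), (2, #[(4, 1)]), (8, #[(30, 1)]), (11, #[(31, 1)]), (14, #[(32, 1)]), (17, #[(33, 1)]), (20, #[(34, 1)]), (23, #[(35, 1)]), (26, #[(36, 1)]), (29, #[(37, 1)]), (38, #[(53, 1)]), (39, #[(55, 1)]), (56, #[(72, 1)]), (58, #[(73, 1)]), (74, #[(82, 1)]), (75, #[(85, 1)]), (76, #[(88, 1)]), (77, #[(91, 1)]), (78, #[(94, 1)]), (79, #[(97, 1)]), (80, #[(100, 1)]), (81, #[(103, 1)]), (107, #[(109, 1)]), (108, #[(110, 1)])]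

/-- Chains of the root 74 of pattern B. -/
def chainB74 : Array (ℕ × Array (ℕ × ℤ)) := #[(3, #[(6, 1)]), (4, #[(7, 1)]), (5, #[(8, 1)]), (27, #[(38, 1)]), (28, #[(39, 1)]), (29, #[(40, 1)]), (31, #[(41, 1)]), (32, #[(42, 1)]), (33, #[(43, 1)]), (34, #[(47, 1)]), (35, #[(48, 1)]), (36, #[(49, 1)]), (62, #[(75, 1)]), (63, #[(76, 1)]), (64, #[(77, 1)]), (68, #[(78, 1)]), (69, #[(79, 1)]), (70, #[(80, 1)]), (71, #[(82, 1)]), (72, #[(83, 1)]), (73, #[(84, 1)]), (103, #[(106, 1)]), (104, #[(107, 1)]), (105, #[(108, 1)])]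

/-- Coroots of the roots of pattern B. -/
def corootB : Array (Array ℤ) :=
  #[#[-2, -2, -1, -2, -2, -1, -1, -2], #[-2, -2, -1, -2, -2, -1, -1, -1], #[-2, -2, -1, -2, -2, -1, 0, -1], #[-2, -1, -1, -2, -2, -1, -1, -1], #[-2, -1, -1, -2, -2, -1, 0, -1], #[-2, -1, -1, -2, -2, -1, 0, 0], #[-1, -1, -1, -2, -2, -1, -1, -1], #[-1, -1, -1, -2, -2, -1, 0, -1], #[-1, -1, -1, -2, -2, -1, 0, 0], #[-1, -1, -1, -1, -2, -1, -1, -1], #[-1, -1, -1, -1, -2, -1, 0, -1], #[-1, -1, -1, -1, -2, -1, 0, 0], #[-1, -1, -1, -1, -1, -1, -1, -1], #[-1, -1, -1, -1, -1, -1, 0, -1], #[-1, -1, -1, -1, -1, -1, 0, 0], #[-1, -1, -1, -1, -1, 0, -1, -1], #[-1, -1, -1, -1, -1, 0, 0, -1], #[-1, -1, -1, -1, -1, 0, 0, 0], #[-1, -1, 0, -1, -1, -1, -1, -1], #[-1, -1, 0, -1, -1, -1, 0, -1], #[-1, -1, 0, -1, -1, -1, 0, 0], #[-1, -1, 0, -1, -1, 0, -1, -1],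 #[-1, -1, 0, -1, -1, 0, 0, -1], #[-1, -1, 0, -1, -1, 0, 0, 0], #[-1, -1, 0, -1, 0, 0, -1, -1], #[-1, -1, 0, -1, 0, 0, 0, -1], #[-1, -1, 0, -1, 0, 0, 0, 0], #[-1, -1, 0, 0, 0, 0, -1, -1], #[-1, -1, 0, 0, 0, 0, 0, -1], #[-1, -1, 0, 0, 0, 0, 0, 0], #[-1, 0, -1, -2, -2, -1, 0, 0], #[-1, 0, -1, -1, -2, -1, 0, 0], #[-1, 0, -1, -1, -1, -1, 0, 0], #[-1, 0, -1, -1, -1, 0, 0, 0], #[-1, 0, 0, -1, -1, -1, 0, 0], #[-1, 0, 0, -1, -1, 0, 0, 0], #[-1, 0, 0, -1, 0, 0, 0, 0], #[-1, 0, 0, 0, 0, 0, 0, 0], #[0, -1, 0, 0, 0, 0, -1, -1], #[0, -1, 0, 0, 0, 0, 0, -1], #[0, -1, 0, 0, 0, 0, 0, 0], #[0, 0, -1, -1, -2, -1, 0, 0], #[0, 0, -1, -1, -1, -1, 0, 0], #[0, 0, -1, -1, -1, 0, 0, 0], #[0, 0, -1, 0, -1, -1, 0, 0], #[0, 0, -1, 0, -1, 0, 0, 0], #[0, 0, -1, 0, 0, 0, 0, 0], #[0, 0, 0, -1, -1, -1, 0, 0], #[0, 0, 0, -1, -1, 0, 0, 0], #[0,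 0, 0, -1, 0, 0, 0, 0], #[0, 0, 0, 0, -1, -1, 0, 0], #[0, 0, 0, 0, -1, 0, 0, 0], #[0, 0, 0, 0, 0, -1, 0, 0], #[0, 0, 0, 0, 0, 0, -1, -1], #[0, 0, 0, 0, 0, 0, -1, 0], #[0, 0, 0, 0, 0, 0, 0, -1], #[0, 0, 0, 0, 0, 0, 0, 1], #[0, 0, 0, 0, 0, 0, 1, 0], #[0, 0, 0, 0, 0, 0, 1, 1], #[0, 0, 0, 0, 0, 1, 0, 0], #[0, 0, 0, 0, 1, 0, 0, 0], #[0, 0, 0, 0, 1, 1, 0, 0], #[0, 0, 0, 1, 0, 0, 0, 0], #[0, 0, 0, 1, 1, 0, 0, 0], #[0, 0, 0, 1, 1, 1, 0, 0], #[0, 0, 1, 0, 0, 0, 0, 0], #[0, 0, 1, 0, 1, 0, 0, 0], #[0, 0, 1, 0, 1, 1, 0, 0], #[0, 0, 1, 1, 1, 0, 0, 0], #[0, 0, 1, 1, 1, 1, 0, 0], #[0, 0, 1, 1, 2, 1, 0, 0], #[0, 1, 0, 0, 0, 0, 0, 0], #[0, 1, 0, 0, 0, 0, 0, 1], #[0, 1, 0, 0, 0, 0, 1, 1], #[1, 0, 0, 0, 0, 0, 0, 0], #[1, 0, 0, 1, 0, 0, 0, 0], #[1, 0, 0, 1, 1, 0, 0, 0], #[1, 0, 0, 1, 1, 1, 0, 0], #[1, 0, 1, 1, 1, 0, 0, 0], #[1, 0,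 1, 1, 1, 1, 0, 0], #[1, 0, 1, 1, 2, 1, 0, 0], #[1, 0, 1, 2, 2, 1, 0, 0], #[1, 1, 0, 0, 0, 0, 0, 0], #[1, 1, 0, 0, 0, 0, 0, 1], #[1, 1, 0, 0, 0, 0, 1, 1], #[1, 1, 0, 1, 0, 0, 0, 0], #[1, 1, 0, 1, 0, 0, 0, 1], #[1, 1, 0, 1, 0, 0, 1, 1], #[1, 1, 0, 1, 1, 0, 0, 0], #[1, 1, 0, 1, 1, 0, 0, 1], #[1, 1, 0, 1, 1, 0, 1, 1], #[1, 1, 0, 1, 1, 1, 0, 0], #[1, 1, 0, 1, 1, 1, 0, 1], #[1, 1, 0, 1, 1, 1, 1, 1], #[1, 1, 1, 1, 1, 0, 0, 0], #[1, 1, 1, 1, 1, 0, 0, 1], #[1, 1, 1, 1, 1, 0, 1, 1], #[1, 1, 1, 1, 1, 1, 0, 0], #[1, 1, 1, 1, 1, 1, 0, 1], #[1, 1, 1, 1, 1, 1, 1, 1], #[1, 1, 1, 1, 2, 1, 0, 0], #[1, 1, 1, 1, 2, 1, 0, 1], #[1, 1, 1, 1, 2, 1, 1, 1], #[1, 1, 1, 2, 2, 1, 0, 0], #[1, 1, 1, 2, 2, 1, 0, 1], #[1, 1, 1, 2, 2, 1, 1, 1], #[2, 1, 1, 2, 2, 1, 0, 0], #[2, 1, 1, 2, 2, 1, 0, 1], #[2, 1, 1, 2, 2, 1, 1, 1], #[2, 2, 1, 2, 2, 1,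 0, 1], #[2, 2, 1, 2, 2, 1, 1, 1], #[2, 2, 1, 2, 2, 1, 1, 2]]

/-- Cartan integers of the roots of pattern B. -/
def cartanB : Array (Array ℤ) :=
  #[#[0, 0, 0, -1, -1, -1, 1, 1, 1, 0, 0, 0, 0, 0, 0, 0, 0, 0, 0, 0, 0, 0, 0, 0, 0, 0, 0, -1, -1, -1, 0, -1, -1, -1, -1, -1, -1, -2, 1, 1, 1, 1, 1, 1, 0, 0, 0, 1, 1, 1, 0, 0, 0, 0, 0, 0, 0, 0, 0, 0, 0, 0, -1, -1, -1, 0, 0, 0, -1, -1, -1, -1, -1, -1, 2, 1, 1, 1, 1, 1, 1, 0, 1, 1, 1, 0, 0, 0, 0, 0, 0, 0, 0, 0, 0, 0, 0, 0, 0, 0, 0, 0, 0, -1, -1, -1, 1, 1, 1, 0, 0, 0], #[0, -1, -1, 1, 1, 0, 0, 0, -1, 0, 0, -1, 0, 0, -1, 0, 0, -1, 0, 0, -1, 0, 0, -1, 0, 0, -1, 0, 0, -1, 1, 1, 1, 1, 1, 1, 1, 1, -1, -1, -2, 0, 0, 0, 0, 0, 0, 0, 0, 0, 0, 0, 0, 1, 0, 1, -1, 0, -1, 0, 0, 0, 0, 0, 0, 0, 0, 0, 0, 0, 0, 2, 1, 1, -1, -1, -1, -1, -1, -1, -1, -1, 1, 0, 0, 1, 0, 0, 1, 0, 0, 1, 0, 0,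 1, 0, 0, 1, 0, 0, 1, 0, 0, 1, 0, 0, 0, -1, -1, 1, 1, 0], #[0, 0, 0, 0, 0, 0, 0, 0, 0, 0, 0, 0, -1, -1, -1, -1, -1, -1, 1, 1, 1, 1, 1, 1, 0, 0, 0, 0, 0, 0, 0, 0, -1, -1, 1, 1, 0, 0, 0, 0, 0, 0, -1, -1, -1, -1, -2, 1, 1, 0, 1, 1, 0, 0, 0, 0, 0, 0, 0, 0, -1, -1, 0, -1, -1, 2, 1, 1, 1, 1, 0, 0, 0, 0, 0, 0, -1, -1, 1, 1, 0, 0, 0, 0, 0, 0, 0, 0, -1, -1, -1, -1, -1, -1, 1, 1, 1, 1, 1, 1, 0, 0, 0, 0, 0, 0, 0, 0, 0, 0, 0, 0], #[0, 0, 0, 0, 0, 0, -1, -1, -1, 1, 1, 1, 0, 0, 0, 0, 0, 0, 0, 0, 0, 0, 0, 0, -1, -1, -1, 1, 1, 1, -1, 1, 0, 0, 0, 0, -1, 1, 0, 0, 0, 0, -1, -1, 1, 1, 0, -1, -1, -2, 1, 1, 0, 0, 0, 0, 0, 0, 0, 0, -1, -1, 2, 1, 1, 0, -1, -1, 1, 1, 0, 0, 0, 0, -1, 1, 0, 0, 0, 0, -1, 1, -1, -1, -1, 1, 1, 1, 0, 0, 0, 0, 0, 0, 0, 0, 0, 0, 0, 0, -1, -1, -1, 1, 1, 1, 0, 0, 0, 0, 0, 0], #[0, 0, 0, 0, 0, 0, 0, 0, 0, -1, -1,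 -1, 1, 1, 1, 0, 0, 0, 0, 0, 0, -1, -1, -1, 1, 1, 1, 0, 0, 0, 0, -1, 1, 0, 0, -1, 1, 0, 0, 0, 0, -1, 1, 0, 0, -1, 1, 0, -1, 1, -1, -2, 1, 0, 0, 0, 0, 0, 0, -1, 2, 1, -1, 1, 0, -1, 1, 0, 0, -1, 1, 0, 0, 0, 0, -1, 1, 0, 0, -1, 1, 0, 0, 0, 0, -1, -1, -1, 1, 1, 1, 0, 0, 0, 0, 0, 0, -1, -1, -1, 1, 1, 1, 0, 0, 0, 0, 0, 0, 0, 0, 0], #[0, 0, 0, 0, 0, 0, 0, 0, 0, 0, 0, 0, -1, -1, -1, 1, 1, 1, -1, -1, -1, 1, 1, 1, 0, 0, 0, 0, 0, 0, 0, 0, -1, 1, -1, 1, 0, 0, 0, 0, 0, 0, -1, 1, -1, 1, 0, -1, 1, 0, -1, 1, -2, 0, 0, 0, 0, 0, 0, 2, -1, 1, 0, -1, 1, 0, -1, 1, -1, 1, 0, 0, 0, 0, 0, 0, -1, 1, -1, 1, 0, 0, 0, 0, 0, 0, 0, 0, -1, -1, -1, 1, 1, 1, -1, -1, -1, 1, 1, 1, 0, 0, 0, 0, 0, 0, 0, 0, 0, 0, 0, 0], #[0, -1, 1, -1, 1, 0, -1, 1, 0, -1, 1, 0, -1, 1, 0, -1, 1, 0, -1, 1, 0, -1, 1, 0, -1, 1, 0, -1, 1, 0, 0, 0, 0, 0, 0, 0, 0, 0, -1,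 1, 0, 0, 0, 0, 0, 0, 0, 0, 0, 0, 0, 0, 0, -1, -2, 1, -1, 2, 1, 0, 0, 0, 0, 0, 0, 0, 0, 0, 0, 0, 0, 0, -1, 1, 0, 0, 0, 0, 0, 0, 0, 0, 0, -1, 1, 0, -1, 1, 0, -1, 1, 0, -1, 1, 0, -1, 1, 0, -1, 1, 0, -1, 1, 0, -1, 1, 0, -1, 1, -1, 1, 0], #[-1, 1, 0, 0, -1, 1, 0, -1, 1, 0, -1, 1, 0, -1, 1, 0, -1, 1, 0, -1, 1, 0, -1, 1, 0, -1, 1, 0, -1, 1, 0, 0, 0, 0, 0, 0, 0, 0, 0, -1, 1, 0, 0, 0, 0, 0, 0, 0, 0, 0, 0, 0, 0, -1, 1, -2, 2, -1, 1, 0, 0, 0, 0, 0, 0, 0, 0, 0, 0, 0, 0, -1, 1, 0, 0, 0, 0, 0, 0, 0, 0, 0, -1, 1, 0, -1, 1, 0, -1, 1, 0, -1, 1, 0, -1, 1, 0, -1, 1, 0, -1, 1, 0, -1, 1, 0, -1, 1, 0, 0, -1, 1]]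

/-- Chains of the roots of pattern B. -/
def chainB : Array (Array (ℕ × Array (ℕ × ℤ))) :=
  #[#[], #[], #[], #[], #[], #[], #[], #[], #[], #[], #[], #[], #[], #[], #[], #[], #[], #[], #[], #[], #[], #[], #[], #[], #[], #[], #[], #[], #[], #[], #[], #[], #[], #[], #[], #[], #[], chainB37, #[], #[], chainB40, #[], #[], #[], #[], #[], chainB46, #[], #[], chainB49, #[], chainB51, chainB52, #[], chainB54, chainB55, chainB56, chainB57, #[], chainB59, chainB60, #[], chainB62, #[], #[], chainB65, #[], #[], #[], #[], #[], chainB71, #[], #[], chainB74, #[], #[], #[], #[], #[], #[], #[], #[], #[], #[], #[], #[], #[], #[], #[], #[], #[], #[], #[], #[], #[], #[], #[], #[], #[], #[], #[], #[], #[], #[], #[], #[], #[], #[], #[], #[], #[]]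

/-- The sign pattern B. -/
def maskB : Mask chevE8 := listMask chevE8 [0, 0, 0, 0, 0, 1, 0, 0]

/-- The roots fixed by the pattern B, as a datum. -/
def datumB : ChevalleyDatum where
  rank := 8
  nroots := 112
  simpleIdx := #[74, 71, 65, 62, 60, 59, 57, 56]
  negIdx := #[111, 110, 109, 108, 107, 106, 105, 104, 103, 102, 101, 100, 99, 98, 97, 96, 95, 94, 93, 92, 91, 90, 89, 88, 87, 86, 85, 84, 83, 82, 81, 80, 79, 78, 77, 76, 75, 74, 73, 72, 71, 70, 69, 68, 67, 66, 65, 64, 63, 62, 61, 60, 59, 58, 57, 56, 55, 54, 53, 52, 51, 50, 49, 48, 47, 46, 45, 44, 43, 42, 41, 40, 39, 38, 37, 36, 35, 34, 33, 32, 31, 30, 29, 28, 27, 26, 25, 24, 23, 22, 21, 20, 19, 18, 17, 16, 15, 14, 13, 12, 11, 10, 9, 8, 7, 6, 5, 4, 3, 2, 1, 0]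
  coroot := corootB
  cartanSR := cartanB
  chain := chainB

/-- Packed coefficient columns of the roots of pattern B. -/
def coefB : List ℕ :=
  [0xaaaaaa9999999999999999999999999999999988888888888888888888888888888888888877777777777777777777777777777777666666, 0xaaa9999999999999999999999999998888888899988888888888888888888888888888877788888888777777777777777777777777777666, 0x9999999999999999998888888888889999888888899999988888888888888888877777788888887777888888888888777777777777777777, 0xaaaaaaaaa999999999999999999888a999999888899988899988888888888877788877788887777776888777777777777777777666666666, 0xaaaaaaaaaaaa999999999999888888aa999988888a9999899899888888887787787777688888777766888888777777777777666666666666, 0x9999999999999998889998888888889998988888899898898898988888878788788787788888878777888888888777888777777777777777,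 0x9989889889889889889889889889888888888898888888888888899887788888888888888788888888887887887887887887887887887877, 0xa999989989989989989989989989988888888899888888888888898978788888888888887788888888877877877877877877877877877776]

/-- Packed keys of the roots of pattern B. -/
def keyB : ℕ :=
  0x8000082042081042800008204208104180000820420810018000081042081041800008104208100180000810420810008000041042081041800004104208100180000410420810008000041041081041800004104108100180000410410810008000041041041041800004104104100180000410410410008000041041040041800004104104000180000410410400008000041001041041800004100104100180000410010410008000041001040041800004100104000180000410010400008000041001000041800004100100000180000410010000008000041000000041800004100000000180000410000000008000040042081000800004004108100080000400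41041000800004004104000080000400010410008000040001040000800004000100000080000400000000008000001000000041800000100000000180000010000000008000000041081000800000004104100080000000410400008000000040041000800000004004000080000000400000008000000001041000800000000104000080000000010000008000000000041000800000000004000080000000000010008000000000000041800000000000004080000000000000017fffffffffffffff7fffffffffffffc07fffffffffffffbf7ffffffffffff0007ffffffffffc00007ffffffffffbf0007fffffffff0000007ffffffffefc00007ffffffffefbf0007fffffffc00000007fffffffbffc00007fffffffbffbf0007fffffffbefc00007fffffffbefbf0007fffffffbef7f0007ffffff0000000007fffffefffffffff7fffffefffffffbf7ffffc00000000007ffffbffff0000007ffffbfffefc00007ffffbfffefbf0007ffffbffbefc00007ffffbffbefbf0007ffffbffbef7f0007ffffbffbdf7f0007ffffbf0000000007ffffbefffff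ffff7ffffbefffffffbf7ffffbefff0000007ffffbeffeffffff7ffffbeffeffffbf7ffffbeffefc00007ffffbeffefbffff7ffffbeffefbffbf7ffffbeffefbf0007ffffbeffefbefff7ffffbeffefbefbf7ffffbefbefc00007ffffbefbefbffff7ffffbefbefbffbf7ffffbefbefbf0007ffffbefbefbefff7ffffbefbefbefbf7ffffbefbef7f0007ffffbefbef7efff7ffffbefbef7efbf7ffffbefbdf7f0007ffffbefbdf7efff7ffffbefbdf7efbf7ffff7efbdf7f0007ffff7efbdf7efff7ffff7efbdf7efbf7ffff7dfbdf7efff7ffff7dfbdf7efbf7ffff7dfbdf7efbe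

theorem rootCheckB : rootCheck datumB (packedCoef datumB.rank coefB) keyB = true := by decide +kernel

/-- Root data of the roots of pattern B. -/
def rootDataB : RootData datumB := RootData.ofCheck _ _ rootCheckB

/-- The tables of pattern B. -/
def tablesB : Tables chevE8 datumB where
  ι := [0, 1, 2, 11, 12, 13, 18, 19, 20, 23, 24, 25, 27, 28, 29, 30, 31, 32, 37, 38, 39, 40, 41, 42, 46, 47, 48, 56, 57, 58, 55, 65, 69, 70, 74, 75, 76, 77, 78, 79, 80, 87, 91, 92, 96, 97, 98, 102, 103, 104, 108, 109, 113, 117, 118, 119, 120, 121, 122, 126, 130, 131, 135, 136, 137, 141, 142, 143, 147, 148, 152, 159, 160, 161, 162, 163, 164, 165, 169, 170, 174, 184, 181, 182, 183, 191, 192, 193, 197, 198, 199, 200, 201, 202, 207, 208, 209, 210, 211, 212, 214, 215, 216, 219, 220, 221, 226, 227, 228, 237, 238, 239]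
  κ := [0, 1, 2, 0, 0, 0, 0, 0, 0, 0, 0, 3, 4, 5, 0, 0, 0, 0, 6, 7, 8, 0, 0, 9, 10, 11, 0, 12, 13, 14, 15, 16, 17, 0, 0, 0, 0, 18, 19, 20, 21, 22, 23, 0, 0, 0, 24, 25, 26, 0, 0, 0, 0, 0, 0, 30, 27, 28, 29, 0, 0, 0, 0, 0, 0, 31, 0, 0, 0, 32, 33, 0, 0, 0, 34, 35, 36, 37, 38, 39, 40, 0, 0, 0, 0, 0, 0, 41, 0, 0, 0, 42, 43, 0, 0, 0, 44, 45, 46, 0, 0, 0, 47, 48, 49, 0, 0, 0, 50, 51, 0, 0, 0, 52, 0, 0, 0, 53, 54, 55, 56, 57, 58, 0, 0, 0, 59, 0, 0, 0, 60, 61, 0, 0, 0, 62, 63, 64, 0, 0, 0, 65, 66, 67, 0, 0, 0, 68, 69, 0, 0, 0, 70, 0, 0, 0, 0, 0, 0, 71, 72, 73, 74, 75, 76, 77, 0, 0, 0, 78, 79, 0, 0, 0, 80, 0, 0, 0, 0, 0, 0, 82, 83, 84, 81, 0, 0, 0, 0, 0, 0, 85, 86, 87, 0, 0, 0, 88, 89, 90, 91, 92, 93, 0, 0, 0, 0, 94, 95, 96, 97, 98, 99, 0, 100, 101, 102, 0, 0, 103, 104, 105, 0, 0, 0, 0, 106, 107, 108, 0, 0, 0, 0, 0, 0,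 0, 0, 109, 110, 111]
  word := [[], [5, 4, 3, 1, 2, 3, 4, 5], [], [], [], [], [], []]
  node := [0, 6, 1, 2, 3, 4, 6, 7]
  B := [[8, 10, 14, 20, 16, 12, 8, 4], [6, 9, 12, 18, 15, 12, 8, 4], [4, 7, 8, 12, 9, 6, 4, 2], [8, 11, 16, 22, 17, 12, 8, 4], [8, 12, 16, 24, 18, 12, 8, 4], [4, 6, 8, 12, 10, 6, 4, 2], [2, 3, 4, 6, 5, 4, 4, 2], [4, 6, 8, 12, 10, 8, 6, 4]]
  d := 2
  Q := [[2, 0, 0, 0, 0, 0, 0, 0], [0, 0, 2, 0, 0, 0, 0, 0], [0, 0, 0, 2, 0, 0, 0, 0], [0, 0, 0, 0, 2, 0, 0, 0], [0, 0, 0, 0, 0, 2, 0, 0], [0, 1, -1, -1, -2, -2, -1, 0], [0, 0, 0, 0, 0, 0, 2, 0], [0, 0, 0, 0, 0, 0, 0, 2]]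
  e := 2

/-- The orbit of the pattern B, each entry a flip of an earlier one. -/
def orbitB : List (Mask chevE8 × Fin chevE8.rank) :=
  [(listMask chevE8 [0, 0, 0, 0, 1, 1, 1, 0], ⟨5, by decide⟩), (listMask chevE8 [0, 0, 0, 1, 1, 0, 1, 0], ⟨4, by decide⟩), (listMask chevE8 [0, 0, 0, 0, 1, 0, 1, 1], ⟨6, by decide⟩), (listMask chevE8 [0, 1, 1, 1, 0, 0, 1, 0], ⟨3, by decide⟩), (listMask chevE8 [0, 0, 0, 1, 1, 1, 1, 1], ⟨6, by decide⟩), (listMask chevE8 [0, 0, 0, 0, 1, 0, 0, 1], ⟨7, by decide⟩), (listMask chevE8 [0, 1, 1, 0, 0, 0, 1, 0], ⟨1, by decide⟩), (listMask chevE8 [1, 1, 1, 0, 0, 0, 1, 0], ⟨2, by decide⟩), (listMask chevE8 [0, 1, 1, 1, 0, 1, 1, 1], ⟨6, by decide⟩), (listMask chevE8 [0, 0, 0, 1, 0, 1, 0, 1], ⟨5, by decide⟩), (listMask chevE8 [0, 0, 0, 1, 1, 1, 0, 1], ⟨7, by decide⟩), (listMask chevE8 [1, 1,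 1, 1, 0, 0, 1, 0], ⟨2, by decide⟩), (listMask chevE8 [0, 1, 1, 0, 0, 1, 1, 1], ⟨6, by decide⟩), (listMask chevE8 [1, 1, 0, 0, 0, 0, 1, 0], ⟨0, by decide⟩), (listMask chevE8 [1, 1, 1, 0, 0, 1, 1, 1], ⟨6, by decide⟩), (listMask chevE8 [0, 1, 1, 1, 1, 1, 0, 1], ⟨5, by decide⟩), (listMask chevE8 [0, 1, 1, 1, 0, 1, 0, 1], ⟨7, by decide⟩), (listMask chevE8 [0, 0, 0, 1, 0, 1, 1, 1], ⟨7, by decide⟩), (listMask chevE8 [1, 1, 0, 1, 0, 0, 1, 0], ⟨0, by decide⟩), (listMask chevE8 [1, 0, 0, 1, 1, 0, 1, 0], ⟨3, by decide⟩), (listMask chevE8 [1, 1, 1, 1, 0, 1, 1, 1], ⟨6, by decide⟩), (listMask chevE8 [0, 1, 1, 0, 1, 1, 0, 1], ⟨5, by decide⟩), (listMask chevE8 [0, 1, 1, 0, 0, 1, 0, 1], ⟨7, by decide⟩), (listMask chevE8 [1, 1, 0, 0, 0, 1, 1, 1], ⟨6, by decide⟩), (listMask chevE8 [1, 1, 1, 0, 1, 1, 0, 1], ⟨5, by decide⟩), (listMask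 chevE8 [1, 1, 1, 0, 0, 1, 0, 1], ⟨7, by decide⟩), (listMask chevE8 [0, 1, 1, 0, 1, 0, 0, 1], ⟨4, by decide⟩), (listMask chevE8 [0, 1, 1, 1, 1, 1, 1, 1], ⟨7, by decide⟩), (listMask chevE8 [0, 0, 0, 1, 0, 0, 1, 0], ⟨6, by decide⟩), (listMask chevE8 [1, 0, 1, 1, 1, 0, 1, 0], ⟨3, by decide⟩), (listMask chevE8 [1, 1, 0, 1, 0, 1, 1, 1], ⟨6, by decide⟩), (listMask chevE8 [1, 0, 0, 0, 1, 1, 1, 0], ⟨4, by decide⟩), (listMask chevE8 [1, 0, 0, 1, 1, 1, 1, 1], ⟨6, by decide⟩), (listMask chevE8 [1, 1, 1, 1, 1, 1, 0, 1], ⟨5, by decide⟩), (listMask chevE8 [1, 1, 1, 1, 0, 1, 0, 1], ⟨7, by decide⟩), (listMask chevE8 [0, 1, 1, 1, 1, 0, 0, 1], ⟨4, by decide⟩), (listMask chevE8 [0, 1, 1, 0, 1, 1, 1, 1], ⟨7, by decide⟩), (listMask chevE8 [1, 1, 0, 0, 1, 1, 0, 1], ⟨5, by decide⟩), (listMask chevE8 [1, 1, 0, 0, 0, 1, 0, 1], ⟨7, by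 decide⟩), (listMask chevE8 [1, 1, 1, 1, 1, 0, 0, 1], ⟨4, by decide⟩), (listMask chevE8 [1, 1, 1, 0, 1, 1, 1, 1], ⟨7, by decide⟩), (listMask chevE8 [0, 1, 1, 0, 1, 0, 1, 1], ⟨7, by decide⟩), (listMask chevE8 [0, 1, 1, 1, 1, 0, 1, 0], ⟨6, by decide⟩), (listMask chevE8 [0, 0, 1, 0, 1, 0, 1, 0], ⟨2, by decide⟩), (listMask chevE8 [1, 0, 1, 0, 1, 1, 1, 0], ⟨4, by decide⟩), (listMask chevE8 [1, 0, 1, 1, 1, 1, 1, 1], ⟨6, by decide⟩), (listMask chevE8 [1, 1, 0, 1, 1, 1, 0, 1], ⟨5, by decide⟩), (listMask chevE8 [1, 1, 0, 1, 0, 1, 0, 1], ⟨7, by decide⟩), (listMask chevE8 [1, 0, 0, 0, 0, 1, 0, 0], ⟨5, by decide⟩), (listMask chevE8 [1, 0, 0, 0, 1, 0, 1, 1], ⟨6, by decide⟩), (listMask chevE8 [1, 0, 0, 1, 0, 1, 0, 1], ⟨5, by decide⟩), (listMask chevE8 [1, 0, 0, 1, 1, 1, 0, 1], ⟨7, by decide⟩), (listMask chevE8 [1, 1, 1, 0,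 1, 0, 0, 1], ⟨4, by decide⟩), (listMask chevE8 [1, 1, 1, 1, 1, 1, 1, 1], ⟨7, by decide⟩), (listMask chevE8 [0, 0, 0, 1, 0, 0, 0, 1], ⟨3, by decide⟩), (listMask chevE8 [0, 1, 1, 1, 1, 0, 1, 1], ⟨7, by decide⟩), (listMask chevE8 [0, 1, 1, 0, 1, 0, 1, 0], ⟨6, by decide⟩), (listMask chevE8 [1, 1, 0, 1, 1, 0, 0, 1], ⟨4, by decide⟩), (listMask chevE8 [1, 1, 0, 0, 1, 1, 1, 1], ⟨7, by decide⟩), (listMask chevE8 [1, 0, 0, 1, 0, 0, 0, 1], ⟨3, by decide⟩), (listMask chevE8 [1, 1, 1, 1, 1, 0, 1, 1], ⟨7, by decide⟩), (listMask chevE8 [1, 1, 1, 0, 1, 0, 1, 0], ⟨6, by decide⟩), (listMask chevE8 [0, 1, 1, 0, 1, 1, 1, 0], ⟨6, by decide⟩), (listMask chevE8 [0, 0, 1, 1, 1, 1, 1, 0], ⟨4, by decide⟩), (listMask chevE8 [0, 0, 1, 0, 1, 1, 1, 1], ⟨6, by decide⟩), (listMask chevE8 [1, 0, 1, 0, 0, 1, 0, 0], ⟨5, by decide⟩), (listMask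 chevE8 [1, 0, 1, 0, 1, 0, 1, 1], ⟨6, by decide⟩), (listMask chevE8 [1, 0, 1, 1, 0, 1, 0, 1], ⟨5, by decide⟩), (listMask chevE8 [1, 0, 1, 1, 1, 1, 0, 1], ⟨7, by decide⟩), (listMask chevE8 [1, 1, 0, 0, 1, 0, 0, 1], ⟨4, by decide⟩), (listMask chevE8 [1, 1, 0, 1, 1, 1, 1, 1], ⟨7, by decide⟩), (listMask chevE8 [1, 0, 0, 0, 1, 0, 0, 1], ⟨7, by decide⟩), (listMask chevE8 [1, 0, 0, 1, 0, 1, 1, 1], ⟨7, by decide⟩), (listMask chevE8 [1, 1, 1, 0, 1, 0, 1, 1], ⟨7, by decide⟩), (listMask chevE8 [1, 1, 1, 1, 1, 0, 1, 0], ⟨6, by decide⟩), (listMask chevE8 [0, 0, 0, 1, 0, 0, 1, 1], ⟨7, by decide⟩), (listMask chevE8 [0, 1, 1, 1, 1, 1, 1, 0], ⟨6, by decide⟩), (listMask chevE8 [1, 0, 1, 1, 0, 0, 0, 1], ⟨3, by decide⟩), (listMask chevE8 [1, 1, 0, 1, 1, 0, 1, 1], ⟨7, by decide⟩), (listMask chevE8 [1, 1, 0, 0, 1, 0, 1, 0], ⟨6, by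 decide⟩), (listMask chevE8 [1, 0, 0, 1, 0, 0, 1, 1], ⟨7, by decide⟩), (listMask chevE8 [1, 1, 1, 1, 1, 1, 1, 0], ⟨6, by decide⟩), (listMask chevE8 [0, 1, 1, 0, 0, 1, 0, 0], ⟨5, by decide⟩), (listMask chevE8 [0, 1, 0, 1, 0, 1, 1, 0], ⟨3, by decide⟩), (listMask chevE8 [0, 0, 1, 1, 0, 1, 0, 0], ⟨5, by decide⟩), (listMask chevE8 [0, 0, 1, 1, 1, 0, 1, 1], ⟨6, by decide⟩), (listMask chevE8 [0, 0, 1, 0, 0, 1, 0, 1], ⟨5, by decide⟩), (listMask chevE8 [0, 0, 1, 0, 1, 1, 0, 1], ⟨7, by decide⟩), (listMask chevE8 [1, 0, 1, 0, 1, 0, 0, 1], ⟨7, by decide⟩), (listMask chevE8 [1, 0, 1, 1, 0, 1, 1, 1], ⟨7, by decide⟩), (listMask chevE8 [1, 1, 0, 0, 1, 0, 1, 1], ⟨7, by decide⟩), (listMask chevE8 [1, 1, 0, 1, 1, 0, 1, 0], ⟨6, by decide⟩), (listMask chevE8 [1, 0, 0, 1, 0, 0, 1, 0], ⟨6, by decide⟩), (listMask chevE8 [1, 1, 1, 0,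 1, 1, 1, 0], ⟨6, by decide⟩), (listMask chevE8 [0, 0, 0, 1, 0, 1, 1, 0], ⟨6, by decide⟩), (listMask chevE8 [0, 1, 1, 1, 0, 1, 0, 0], ⟨5, by decide⟩), (listMask chevE8 [0, 0, 1, 0, 0, 0, 0, 1], ⟨2, by decide⟩), (listMask chevE8 [1, 0, 1, 1, 0, 0, 1, 1], ⟨7, by decide⟩), (listMask chevE8 [1, 1, 0, 1, 1, 1, 1, 0], ⟨6, by decide⟩), (listMask chevE8 [1, 0, 0, 1, 0, 1, 1, 0], ⟨6, by decide⟩), (listMask chevE8 [1, 1, 1, 1, 0, 1, 0, 0], ⟨5, by decide⟩), (listMask chevE8 [0, 1, 0, 0, 0, 1, 1, 0], ⟨1, by decide⟩), (listMask chevE8 [0, 1, 0, 1, 1, 1, 0, 0], ⟨5, by decide⟩), (listMask chevE8 [0, 1, 0, 1, 0, 0, 1, 1], ⟨6, by decide⟩), (listMask chevE8 [0, 0, 1, 1, 1, 0, 0, 1], ⟨7, by decide⟩), (listMask chevE8 [0, 0, 1, 0, 0, 1, 1, 1], ⟨7, by decide⟩), (listMask chevE8 [1, 0, 1, 1, 0, 0, 1, 0], ⟨6, by decide⟩), (listMask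 chevE8 [1, 1, 0, 0, 1, 1, 1, 0], ⟨6, by decide⟩), (listMask chevE8 [1, 1, 1, 0, 0, 1, 0, 0], ⟨5, by decide⟩), (listMask chevE8 [0, 0, 0, 1, 1, 1, 0, 0], ⟨5, by decide⟩), (listMask chevE8 [0, 0, 1, 0, 0, 0, 1, 1], ⟨7, by decide⟩), (listMask chevE8 [1, 0, 1, 1, 0, 1, 1, 0], ⟨6, by decide⟩), (listMask chevE8 [1, 1, 0, 1, 0, 1, 0, 0], ⟨5, by decide⟩), (listMask chevE8 [1, 0, 0, 1, 1, 1, 0, 0], ⟨5, by decide⟩), (listMask chevE8 [0, 1, 0, 0, 1, 1, 0, 0], ⟨5, by decide⟩), (listMask chevE8 [0, 1, 0, 0, 0, 0, 1, 1], ⟨6, by decide⟩), (listMask chevE8 [0, 1, 0, 0, 1, 0, 0, 0], ⟨4, by decide⟩), (listMask chevE8 [0, 1, 0, 1, 0, 0, 0, 1], ⟨7, by decide⟩), (listMask chevE8 [0, 0, 1, 0, 0, 0, 1, 0], ⟨6, by decide⟩), (listMask chevE8 [1, 1, 0, 0, 0, 1, 0, 0], ⟨5, by decide⟩), (listMask chevE8 [0, 0, 0, 0, 1, 0, 0, 0], ⟨4, by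 decide⟩), (listMask chevE8 [0, 0, 1, 0, 0, 1, 1, 0], ⟨6, by decide⟩), (listMask chevE8 [1, 0, 1, 1, 1, 1, 0, 0], ⟨5, by decide⟩), (listMask chevE8 [1, 0, 0, 0, 1, 0, 0, 0], ⟨4, by decide⟩), (listMask chevE8 [0, 1, 0, 1, 1, 0, 0, 0], ⟨4, by decide⟩), (listMask chevE8 [0, 1, 0, 0, 0, 0, 0, 1], ⟨7, by decide⟩), (listMask chevE8 [0, 0, 1, 0, 1, 1, 0, 0], ⟨5, by decide⟩), (listMask chevE8 [1, 0, 1, 0, 1, 0, 0, 0], ⟨4, by decide⟩), (listMask chevE8 [0, 0, 1, 1, 0, 0, 0, 0], ⟨3, by decide⟩), (listMask chevE8 [0, 0, 1, 1, 1, 0, 0, 0], ⟨4, by decide⟩), (listMask chevE8 [1, 0, 1, 0, 0, 0, 0, 0], ⟨2, by decide⟩), (listMask chevE8 [0, 1, 0, 1, 0, 0, 0, 0], ⟨3, by decide⟩), (listMask chevE8 [1, 0, 0, 0, 0, 0, 0, 0], ⟨0, by decide⟩), (listMask chevE8 [0, 1, 0, 0, 0, 0, 0, 0], ⟨1, by decide⟩)]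

end CfsgLib.ExcInvol.E8
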