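import Cfsg.Agent.Lib.ExcInvol.Cert

/-!
Cheaper forms of the table checks: reflections through a table of their values, sign patterns
through binary numbers.
-/

set_option autoImplicit false

namespace CfsgLib.ExcInvol

open Cfsg.Lie CfsgLib.ChevStr

variable {D E : ChevalleyDatum}

/-- A word of indices applied to a root index through a table of reflections. -/
def wordF (f : ℕ → ℕ → ℕ) (L : List ℕ) (s : ℕ) : ℕ := L.foldr (fun i x => f i x) s

/-- The checks on roots, with reflections read from a table. -/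
def Tables.rootsCheckFast (T : Tables D E) (R : RootData D) (m : Mask D) (f : ℕ → ℕ → ℕ) : Bool :=
  ((List.range E.nroots).all fun x => decide (T.ιN x < D.nroots) &&
    decide (T.κ.getD (T.ιN x) 0 = x) && decide (par R m (T.ιN x) = 0) &&
    (decide (E.IsPosRoot x) == decide (D.IsPosRoot (T.ιN x)))) &&
  ((List.range D.nroots).all fun s => decide (par R m s = 0 →
    T.κ.getD s 0 < E.nroots ∧ T.ιN (T.κ.getD s 0) = s)) &&
  ((List.range E.rank).all fun b =>
    decide (T.nodeAt b < D.rank) && ((T.wordAt b).all fun i => decide (i < D.rank)) &&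
    decide (par R m (wordF f (T.wordAt b) (D.simple (T.nodeAt b))) = 0) &&
    ((List.range E.nroots).all fun x => decide
      (wordF f (T.wordAt b ++ [T.nodeAt b] ++ (T.wordAt b).reverse) (T.ιN x) =
        T.ιN (E.reflectRoot b x))))

theorem wordN_eq_wordF {R : RootData D} (hR : ReflData R) {f : ℕ → ℕ → ℕ}
    (hf : ∀ i < D.rank, ∀ s < D.nroots, D.reflectRoot i s = f i s) :
    ∀ {L : List ℕ}, (∀ i ∈ L, i < D.rank) → ∀ {s : ℕ}, s < D.nroots →
      wordN D L s = wordF f L s ∧ wordN D L s < D.nroots
  | [], _, _, hs => ⟨rfl, hs⟩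
  | a :: L, hL, s, hs => by
    obtain ⟨h1, h2⟩ := wordN_eq_wordF hR hf (L := L) (fun i hi => hL i (List.mem_cons_of_mem _ hi)) hs
    have ha : a < D.rank := hL a (List.mem_cons_self ..)
    refine ⟨?_, hR.refl_lt ⟨a, ha⟩ _ h2⟩
    show D.reflectRoot a (wordN D L s) = f a (wordF f L s)
    rw [hf a ha _ h2, h1]

theorem Tables.rootsCheck_of_fast (T : Tables D E) {R : RootData D} (hR : ReflData R) (m : Mask D)
    {f : ℕ → ℕ → ℕ} (hf : ∀ i < D.rank, ∀ s < D.nroots, D.reflectRoot i s = f i s)
    (h : T.rootsCheckFast R m f = true) : T.rootsCheck R m = true := by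
  simp only [Tables.rootsCheckFast, Tables.rootsCheck, Bool.and_eq_true, List.all_eq_true,
    List.mem_range, decide_eq_true_eq] at h ⊢
  refine ⟨h.1, fun b hb => ?_⟩
  obtain ⟨⟨⟨hn, hw⟩, hp⟩, hx⟩ := h.2 b hb
  refine ⟨⟨⟨hn, hw⟩, ?_⟩, fun x hxE => ?_⟩
  · rw [(wordN_eq_wordF hR hf hw (R.simple_lt ⟨_, hn⟩)).1]
    exact hp
  · have hι : T.ιN x < D.nroots := (h.1.1 x hxE).1.1.1
    have hL : ∀ i ∈ T.wordAt b ++ [T.nodeAt b] ++ (T.wordAt b).reverse, i < D.rank := by
      intro i hi
      simp only [List.mem_append, List.mem_singleton, List.mem_reverse] at hi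
      rcases hi with (hi | rfl) | hi
      · exact hw i hi
      · exact hn
      · exact hw i hi
    rw [(wordN_eq_wordF hR hf hL hι).1]
    exact hx x hxE

/-- A sign pattern as a binary number. -/
def maskCode (m : Mask D) : ℕ := Nat.ofDigits 2 (List.ofFn fun j => (m j).val)

theorem maskCode_injective : Function.Injective (maskCode (D := D)) := by
  intro a b h
  have hlt : ∀ c : Mask D, ∀ x ∈ List.ofFn (fun j => (c j).val), x < 2 := fun c x hx => by
    obtain ⟨j, rfl⟩ := (List.mem_ofFn' _ _).1 hx
    exact ZMod.val_lt _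
  have h1 := Nat.injOn_ofDigits (b := 2) (by norm_num) D.rank
    ⟨List.length_ofFn, hlt a⟩ ⟨List.length_ofFn, hlt b⟩ h
  funext j
  exact ZMod.val_injective 2 (congrFun (List.ofFn_injective h1) j)

/-- A list of sign patterns closed under the fundamental reflections, checked on binary numbers. -/
def closedCheck (L : List (Mask D)) : Bool :=
  L.all fun x => (List.finRange D.rank).all fun i =>
    (L.map maskCode).any fun c => Nat.beq c (maskCode (flipMask i x))

theorem closed_of_check {L : List (Mask D)} (h : closedCheck L = true) :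
    ∀ x ∈ L, ∀ i, flipMask i x ∈ L := by
  intro x hx i
  simp only [closedCheck, List.all_eq_true, List.any_eq_true, List.mem_map] at h
  obtain ⟨c, ⟨y, hy, rfl⟩, hc⟩ := h x hx i (List.mem_finRange i)
  rwa [← maskCode_injective (Nat.eq_of_beq_eq_true hc)]

end CfsgLib.ExcInvol
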