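import Cfsg.Agent.Lib.ExcInvol.Classes

/-!
Two classes of involutions and their centraliser orders, from two certified sign patterns.
-/

set_option autoImplicit false

namespace CfsgLib.ExcInvol

open Cfsg.Lie CfsgLib.ChevStr CfsgLib.CycTorus
open scoped MatrixGroups

variable {D : ChevalleyDatum}

/-- A matrix inverse to the transposed Cartan matrix, from its entries. -/
theorem mul_cartanMat_eq_one (N : Fin D.rank → Fin D.rank → ℤ)
    (hN : ∀ i k : Fin D.rank,
      ∑ j, N i j * D.cartan k.val (D.simple j.val) = if k = i then 1 else 0) :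
    Matrix.of N * cartanMat D = 1 := by
  ext i k
  rw [Matrix.mul_apply, Matrix.one_apply]
  exact (hN i k).trans (if_congr eq_comm rfl rfl)

theorem neZero_two_of_odd_card {F : Type*} [Field F] [Fintype F] (h : Odd (Fintype.card F)) :
    NeZero (2 : F) :=
  ⟨fun h2 => by
    have : CharP F 2 := (CharP.charP_iff_prime_eq_zero Nat.prime_two).2 (by exact_mod_cast h2)
    obtain ⟨k, -, hk⟩ := FiniteField.card F 2
    rw [hk] at h
    exact absurd h (by simp [parity_simps])⟩

end CfsgLib.ExcInvol
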