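import Cfsg.Agent.Lib.ChevStr.Orders

/-!
Sign patterns of torus elements of order two as vectors over `ZMod 2`: the action of the Weyl group,
orbits checked from tables, and orders of Weyl groups from parabolic chains.
-/

set_option autoImplicit false

namespace CfsgLib.ExcInvol

open Cfsg.Lie CfsgLib.ChevStr

variable {D : ChevalleyDatum}

/-- The sign patterns. -/
abbrev Mask (D : ChevalleyDatum) : Type := Fin D.rank → ZMod 2

/-- The value of a sign pattern at a vector. -/
def parv (m : Mask D) : (Fin D.rank → ℤ) →+ ZMod 2 where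
  toFun v := ∑ j, m j * (v j : ZMod 2)
  map_zero' := by simp
  map_add' v w := by simp [mul_add, Finset.sum_add_distrib]

/-- The value of a sign pattern at a root. -/
def par (R : RootData D) (m : Mask D) (s : ℕ) : ZMod 2 := parv m (R.α s)

theorem parv_single (m : Mask D) (j : Fin D.rank) : parv m (Pi.single j 1) = m j := by
  show ∑ k, m k * (((Pi.single j 1 : Fin D.rank → ℤ) k : ℤ) : ZMod 2) = m j
  rw [Fintype.sum_eq_single j]
  · simp
  · intro k hk; simp [hk]

theorem par_simple (R : RootData D) (m : Mask D) (j : Fin D.rank) : par R m (D.simple j.val) = m j := by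
  rw [par, R.α_simple, parv_single]

/-- A sign pattern given by a list. -/
def listMask (D : ChevalleyDatum) (L : List ℕ) : Mask D := fun j => (L.getD j.val 0 : ZMod 2)

/-- A fundamental reflection on sign patterns. -/
def flipMask (i : Fin D.rank) (m : Mask D) : Mask D :=
  fun j => m j - (D.cartan i.val (D.simple j.val) : ZMod 2) * m i

variable {R : RootData D} (hR : ReflData R)

/-- The Weyl group on sign patterns. -/
@[nolint unusedArguments]
def act (_hR : ReflData R) (w : Equiv.Perm (Fin D.nroots)) (m : Mask D) : Mask D :=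
  fun j => par R m (w⁻¹ ⟨D.simple j.val, R.simple_lt j⟩ : Fin D.nroots)

theorem par_act {w : Equiv.Perm (Fin D.nroots)} (hw : w ∈ hR.weyl) (m : Mask D) (s : Fin D.nroots) :
    par R (act hR w m) s = par R m (w⁻¹ s : Fin D.nroots) := by
  rw [par, par, hR.α_weyl w⁻¹ (inv_mem hw) s, map_sum]
  show ∑ j, act hR w m j * (R.α s j : ZMod 2) = _
  refine Finset.sum_congr rfl fun j _ => ?_
  rw [map_zsmul, zsmul_eq_mul, mul_comm]
  rfl

theorem act_one (m : Mask D) : act hR 1 m = m := by
  funext j
  simp [act, par_simple]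

theorem act_mul {v w : Equiv.Perm (Fin D.nroots)} (hw : w ∈ hR.weyl) (m : Mask D) :
    act hR (v * w) m = act hR v (act hR w m) := by
  funext j
  show par R m _ = par R (act hR w m) _
  rw [par_act hR hw, mul_inv_rev, Equiv.Perm.mul_apply]

theorem act_sPerm (i : Fin D.rank) (m : Mask D) : act hR (hR.sPerm i) m = flipMask i m := by
  funext j
  show par R m _ = _
  rw [inv_eq_of_mul_eq_one_right (hR.sPerm_mul_self i), hR.sPerm_val, par,
    hR.α_refl i _ (R.simple_lt j), map_sub, map_zsmul, R.α_simple, parv_single, parv_single,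
    zsmul_eq_mul]
  rfl

/-- The stabiliser of a sign pattern in the Weyl group. -/
def stab (hR : ReflData R) (m : Mask D) : Subgroup (Equiv.Perm (Fin D.nroots)) where
  carrier := {w | w ∈ hR.weyl ∧ act hR w m = m}
  one_mem' := ⟨one_mem _, act_one hR m⟩
  mul_mem' {a b} ha hb := ⟨mul_mem ha.1 hb.1, by rw [act_mul hR hb.1, hb.2, ha.2]⟩
  inv_mem' {a} ha := ⟨inv_mem ha.1, by
    conv_lhs => rw [← ha.2]
    rw [← act_mul hR ha.1, inv_mul_cancel, act_one]⟩

theorem mem_stab {m : Mask D} {w : Equiv.Perm (Fin D.nroots)} :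
    w ∈ stab hR m ↔ w ∈ hR.weyl ∧ act hR w m = m := Iff.rfl

theorem stab_iff {m : Mask D} {w : Equiv.Perm (Fin D.nroots)} (hw : w ∈ hR.weyl) :
    w ∈ stab hR m ↔ ∀ s : Fin D.nroots, par R m (w s) = par R m s := by
  rw [mem_stab, and_iff_right hw]
  constructor
  · intro h s
    have := par_act hR hw m (w s)
    rwa [h, Equiv.Perm.inv_def, Equiv.symm_apply_apply] at this
  · intro h
    funext j
    have := h (w⁻¹ ⟨D.simple j.val, R.simple_lt j⟩)
    rw [Equiv.Perm.inv_def, Equiv.apply_symm_apply] at this
    rw [← par_simple R m j]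
    exact this.symm

/-- The orbit of a sign pattern. -/
noncomputable def orbitSet (hR : ReflData R) (m : Mask D) : Finset (Mask D) :=
  hR.weylSet.image fun w => act hR w m

theorem mem_orbitSet {m x : Mask D} : x ∈ orbitSet hR m ↔ ∃ w ∈ hR.weyl, act hR w m = x := by
  simp [orbitSet, hR.mem_weylSet]

theorem flip_mem_orbitSet {m x : Mask D} (i : Fin D.rank) (hx : x ∈ orbitSet hR m) :
    flipMask i x ∈ orbitSet hR m := by
  obtain ⟨w, hw, rfl⟩ := (mem_orbitSet hR).1 hx
  exact (mem_orbitSet hR).2 ⟨_, mul_mem (hR.sPerm_mem i) hw, by rw [act_mul hR hw, act_sPerm]⟩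

/-- The orbit–stabiliser count. -/
theorem card_weyl_eq (m : Mask D) :
    Nat.card hR.weyl = (orbitSet hR m).card * Nat.card (stab hR m) := by
  classical
  have hcard : hR.weylSet.card = Nat.card hR.weyl := by
    rw [← Set.ncard_coe_finset]
    simp only [ReflData.weylSet, Set.Finite.coe_toFinset]
    rfl
  rw [← hcard, Finset.card_eq_sum_card_image (fun w => act hR w m) hR.weylSet,
    Finset.sum_const_nat (m := Nat.card (stab hR m)) (fun x hx => ?_)]
  · rfl
  · obtain ⟨v, hv, rfl⟩ := Finset.mem_image.1 hx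
    rw [hR.mem_weylSet] at hv
    let _ : Fintype (stab hR m) := Fintype.ofFinite _
    rw [Nat.card_eq_fintype_card, ← Finset.card_univ]
    have hmem : ∀ w ∈ hR.weylSet.filter (fun a => act hR a m = act hR v m),
        v⁻¹ * w ∈ stab hR m := fun w hw => by
      obtain ⟨hw, he⟩ := Finset.mem_filter.1 hw
      rw [hR.mem_weylSet] at hw
      exact ⟨mul_mem (inv_mem hv) hw, by
        rw [act_mul hR hw, he, ← act_mul hR hv, inv_mul_cancel, act_one]⟩
    refine Finset.card_bij (fun w hw => (⟨v⁻¹ * w, hmem w hw⟩ : stab hR m))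
      (fun _ _ => Finset.mem_univ _) ?_ ?_
    · intro a _ b _ h
      exact mul_left_cancel (congrArg Subtype.val h)
    · intro u _
      refine ⟨v * u, Finset.mem_filter.2 ⟨hR.mem_weylSet.2 (mul_mem hv u.2.1), by
        rw [act_mul hR u.2.1, u.2.2]⟩, Subtype.ext (by group)⟩

/-- Every entry is a flip of an earlier one. -/
def reachCheck : List (Mask D × Fin D.rank) → List (Mask D) → Bool
  | [], _ => true
  | (x, i) :: rest, seen => decide (flipMask i x ∈ seen) && reachCheck rest (x :: seen)

theorem mem_orbitSet_of_reach (m : Mask D) : ∀ (L : List (Mask D × Fin D.rank)) (seen : List (Mask D)),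
    reachCheck L seen = true → (∀ x ∈ seen, x ∈ orbitSet hR m) →
      ∀ e ∈ L, e.1 ∈ orbitSet hR m := by
  intro L
  induction L with
  | nil => intro seen _ _ e he; simp at he
  | cons a L ih =>
    intro seen h hseen e he
    obtain ⟨x, i⟩ := a
    simp only [reachCheck, Bool.and_eq_true, decide_eq_true_eq] at h
    have hflip : flipMask i (flipMask i x) = x := by
      rw [← act_sPerm hR, ← act_sPerm hR, ← act_mul hR (hR.sPerm_mem i), hR.sPerm_mul_self, act_one]
    have hx : x ∈ orbitSet hR m := hflip ▸ flip_mem_orbitSet hR i (hseen _ h.1)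
    rcases List.mem_cons.1 he with rfl | he
    · exact hx
    · exact ih (x :: seen) h.2 (fun y hy => (List.mem_cons.1 hy).elim (fun e => e ▸ hx) (hseen y)) e he

theorem orbitSet_eq (m : Mask D) (L : List (Mask D × Fin D.rank))
    (h : reachCheck L [m] = true)
    (hclosed : ∀ x ∈ m :: L.map Prod.fst, ∀ i, flipMask i x ∈ m :: L.map Prod.fst) :
    orbitSet hR m = (m :: L.map Prod.fst).toFinset := by
  ext x
  rw [List.mem_toFinset]
  constructor
  · intro hx
    obtain ⟨w, hw, rfl⟩ := (mem_orbitSet hR).1 hx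
    clear hx
    suffices hgen : ∀ w ∈ hR.weyl, ∀ y ∈ m :: L.map Prod.fst,
        act hR w y ∈ m :: L.map Prod.fst from hgen w hw m (List.mem_cons_self ..)
    refine hR.weyl_induction (fun y hy => by rwa [act_one]) fun v _ i ih y hy => ?_
    rw [act_mul hR (hR.sPerm_mem i), act_sPerm]
    exact ih _ (hclosed y hy i)
  · intro hx
    have hm : m ∈ orbitSet hR m := (mem_orbitSet hR).2 ⟨1, one_mem _, act_one hR m⟩
    rcases List.mem_cons.1 hx with rfl | hx
    · exact hm
    · obtain ⟨e, he, rfl⟩ := List.mem_map.1 hx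
      exact mem_orbitSet_of_reach hR m L [m] h (by simpa using hm) e he

/-- The order of the Weyl group from a chain. -/
theorem card_weyl_of_chain (steps : List (Fin D.rank × ℕ)) (N : ℕ)
    (h : (chainPoly D (List.finRange D.rank) steps).map
      (fun ps => (ps.map fun p => polyEval p 1).prod) = some (N : ℤ)) :
    Nat.card hR.weyl = N := by
  rw [Option.map_eq_some_iff] at h
  obtain ⟨ps, hps, he⟩ := h
  have h1 := hR.poincare_chain 1 steps _ ps hps
  rw [List.toFinset_finRange, he, ReflData.poincare] at h1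
  simp only [one_pow, Finset.sum_const, nsmul_eq_mul, mul_one] at h1
  rw [← hR.weylSub_univ]
  show (hR.weylSub Finset.univ : Set (Equiv.Perm (Fin D.nroots))).ncard = N
  rw [Set.ncard_eq_toFinset_card _ (Set.toFinite _)]
  exact_mod_cast h1

end CfsgLib.ExcInvol
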