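import Cfsg.Agent.Lib.CycTorus.Group
import Cfsg.Agent.Lib.ChevStr.Poincare
import Mathlib.FieldTheory.IsAlgClosed.Basic

/-!
Over an algebraically closed field of odd prime characteristic every involution of a Chevalley group
is conjugate to a torus element.
-/

set_option autoImplicit false

namespace CfsgLib.ExcInvol

open Cfsg.Lie CfsgLib.ChevStr CfsgLib.CycTorus
open scoped MatrixGroups

variable {D : ChevalleyDatum} {K : Type*} [Field K] (C : ChevCore D K)

/-- Conjugate to a torus element inside the group. -/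
def ToTorus (y : GL D.Idx K) : Prop :=
  ∃ g ∈ D.group K, ∃ c : Fin D.rank → Kˣ, g * y * g⁻¹ = C.R.torus c

theorem ToTorus.of_conj {y : GL D.Idx K} {g : GL D.Idx K} (hg : g ∈ D.group K)
    (h : ToTorus C (g * y * g⁻¹)) : ToTorus C y := by
  obtain ⟨a, ha, c, hc⟩ := h
  exact ⟨a * g, mul_mem ha hg, c, by rw [← hc]; group⟩

include C in
/-- A positive unipotent element has order a power of the characteristic. -/
theorem exists_pow_char_pow_eq_one (hn : 0 < D.nroots) (p : ℕ) [Fact p.Prime] [CharP K p]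
    {v : GL D.Idx K} (hv : v ∈ D.posUnipotent K) : ∃ k : ℕ, v ^ p ^ k = 1 := by
  refine ⟨D.rank + D.nroots, Units.ext ?_⟩
  have : Nonempty D.Idx := ⟨Sum.inr ⟨0, hn⟩⟩
  have h0 := C.R.upperUni_pow_eq_zero K hn (C.R.posUnipotent_le_upperUni K hv)
  have hle : D.rank + D.nroots ≤ p ^ (D.rank + D.nroots) :=
    (Nat.lt_pow_self (Fact.out : p.Prime).one_lt).le
  have h1 := sub_pow_char_pow_of_commute (p := p) (n := D.rank + D.nroots)
    (Commute.one_right (v : Matrix D.Idx D.Idx K))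
  rw [one_pow, pow_eq_zero_of_le hle h0] at h1
  rw [Units.val_pow_eq_pow_val, Units.val_one]
  exact sub_eq_zero.1 h1.symm

/-- An element of `B` of order dividing two is conjugate to a torus element. -/
theorem toTorus_of_borel (hn : 0 < D.nroots) (p : ℕ) [Fact p.Prime] [CharP K p] (hp : p ≠ 2)
    {y : GL D.Idx K} (hy : y ∈ D.borelSubgroup K) (h2 : y * y = 1) : ToTorus C y := by
  obtain ⟨v, hv, c, rfl⟩ := C.mem_borel.1 hy
  set t := C.R.torus c with ht
  have htd : t ∈ D.diagonalSubgroup K := by rw [C.diagonalSubgroup_eq]; exact ⟨c, rfl⟩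
  have hconj : t * v * t⁻¹ ∈ D.posUnipotent K :=
    (Subgroup.mem_normalizer_iff.1 (C.diagonal_normalizes_pos htd) v).1 hv
  have hU : v * (t * v * t⁻¹) ∈ D.posUnipotent K := mul_mem hv hconj
  have heq : v * (t * v * t⁻¹) = (t * t)⁻¹ := by
    rw [eq_inv_iff_mul_eq_one]
    calc v * (t * v * t⁻¹) * (t * t) = v * t * (v * t) := by group
      _ = 1 := h2
  have hone : v * (t * v * t⁻¹) = 1 :=
    (Subgroup.eq_bot_iff_forall _).1 C.posUnipotent_inf_diagonal _
      (Subgroup.mem_inf.2 ⟨hU, heq ▸ inv_mem (mul_mem htd htd)⟩)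
  have htv : t * v * t⁻¹ = v⁻¹ := (inv_eq_of_mul_eq_one_right hone).symm
  obtain ⟨k, hk⟩ := exists_pow_char_pow_eq_one C hn p hv
  obtain ⟨m, hm⟩ : Odd (p ^ k) := ((Fact.out : p.Prime).odd_of_ne_two hp).pow
  set h := v ^ (m + 1) with hh
  have hhU : h ∈ D.posUnipotent K := pow_mem hv _
  have hsq : h * h = v := by
    rw [hh, ← pow_add, show m + 1 + (m + 1) = p ^ k + 1 by omega, pow_succ, hk, one_mul]
  have hth : t * h * t⁻¹ = h⁻¹ := by
    rw [hh, ← conj_pow, htv, inv_pow]
  refine ⟨h⁻¹, inv_mem (C.borel_le_group (le_sup_left (b := D.diagonalSubgroup K) hhU)), c, ?_⟩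
  calc h⁻¹ * (v * t) * h⁻¹⁻¹ = h⁻¹ * v * (t * h * t⁻¹) * t := by group
    _ = h⁻¹ * v * h⁻¹ * t := by rw [hth]
    _ = t := by rw [← hsq]; group

theorem exists_mul_affine_eq_one [IsAlgClosed K] {a : K} (b : K) (ha : a ≠ 0) :
    ∃ s : K, s * (b + a * s) = 1 := by
  set q : Polynomial K := Polynomial.C a * Polynomial.X ^ 2 + Polynomial.C b * Polynomial.X +
    Polynomial.C (-1 : K) with hq
  have hdeg : q.degree = 2 := Polynomial.degree_quadratic ha
  obtain ⟨s, hs⟩ := IsAlgClosed.exists_root q (by rw [hdeg]; simp)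
  refine ⟨s, ?_⟩
  simp [hq, Polynomial.IsRoot.def] at hs
  linear_combination hs

open ChevCore

/-- The induction step: an involution in a cell of positive length is conjugate into a shorter one. -/
theorem exists_shorter [IsAlgClosed K] {y n : GL D.Idx K} (h2 : y * y = 1)
    (hn : n ∈ D.monomialSubgroup K) {w : Equiv.Perm (Fin D.nroots)} (hw : C.Moves n w)
    (hy : y ∈ C.bigCell n) (hne : C.hR.invSet w ≠ ∅) :
    ∃ g ∈ D.group K, ∃ n' ∈ D.monomialSubgroup K, ∃ w', C.Moves n' w' ∧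
      (C.hR.invSet w').card < (C.hR.invSet w).card ∧ g * y * g⁻¹ ∈ C.bigCell n' := by
  have hyinv : y⁻¹ = y := inv_eq_of_mul_eq_one_right h2
  have hninv : C.Moves n⁻¹ w⁻¹ := Moves.inv C hn hw
  have hww : w = w⁻¹ := by
    refine C.moves_eq_of_mem hn (inv_mem hn) hw hninv ?_
    have := C.inv_mem_bigCell hy
    rw [hyinv] at this
    exact C.bigCell_trans (C.bigCell_symm hy) this
  obtain ⟨i, hi⟩ := C.hR.exists_simple_neg_of_ne_one hw.1 hne
  have hi' : D.IsNegRoot (w (C.pRoot i)) := hi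
  set p := D.simple i.val with hp
  set s := C.hR.sPerm i with hs
  have hws : (C.hR.invSet (w * s)).card + 1 = (C.hR.invSet w).card :=
    C.hR.invSet_mul_sPerm_of_neg hw.1 i hi
  obtain ⟨a, ha, b, hb, rfl⟩ := C.mem_bigCell.1 hy
  have hba : b * a ∈ D.borelSubgroup K := mul_mem hb ha
  have hsN := C.nS_mem_monomial i
  have hnG := C.monomial_le_group hn
  by_cases hcase : w (C.pRoot i) = C.pNeg i
  · obtain ⟨v, hv, τ, c, hvc⟩ := C.borel_decomp i hba
    obtain ⟨κ, hκ, hκ'⟩ := moves_linear C hn hw (C.pRoot i)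
    set χ : K := (C.R.torusChar c (C.R.α (C.pRoot i)) : K) with hχ
    have hχ0 : χ ≠ 0 := Units.ne_zero _
    obtain ⟨σ, hσ⟩ := exists_mul_affine_eq_one (κ * τ) (mul_ne_zero hκ hχ0)
    have hσ0 : σ ≠ 0 := left_ne_zero_of_mul_eq_one hσ
    set x := fun t : K => C.xGL p t with hx
    set v' := (x (τ + χ * σ))⁻¹ * v * x (τ + χ * σ) with hv'
    have hv'U : v' ∈ C.Usub i := by
      have hmem : x (τ + χ * σ) ∈ D.rootSubgroup K p := C.mem_rootSubgroup.2 ⟨_, rfl⟩
      have := (Subgroup.mem_normalizer_iff.1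
        (inv_mem (C.rootSubgroup_le_normalizer_Usub i hmem)) v).1 hv
      simpa [hv'] using this
    -- the representative of the reflection used for conjugation
    set m := C.nGL p (-σ) with hm
    have hm' : m = C.R.torusSingle i (Units.mk0 (-σ) (neg_ne_zero.2 hσ0)) * C.nS i :=
      C.nGL_simple i (Units.mk0 (-σ) (neg_ne_zero.2 hσ0))
    have hmN : m ∈ D.monomialSubgroup K := by
      rw [hm']; exact mul_mem (C.torus_mem_monomial _) hsN
    have hmw : C.Moves m s := by
      have := Moves.mul C (C.moves_torus (Pi.mulSingle i (Units.mk0 (-σ) (neg_ne_zero.2 hσ0))))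
        (Acts.moves C (C.acts_nS i))
      rw [one_mul] at this
      rw [hm']; exact this
    have hminv : C.Moves m⁻¹ s := by
      have := Moves.inv C hmN hmw
      rwa [hs, inv_eq_of_mul_eq_one_right (C.hR.sPerm_mul_self i)] at this
    have hmU : m⁻¹ * v' * m ∈ C.Usub i := by
      have := C.conj_Ucl_le hminv (S := {r | D.IsPosRoot r ∧ r ≠ D.simple i.val}) (T := C.Usub i)
        (fun s hs t => C.xGL_mem_Ucl (S := {r | D.IsPosRoot r ∧ r ≠ D.simple i.val}) ⟨?_, ?_⟩ t) v' hv'U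
      · simpa using this
      · exact C.hR.refl_pos i hs.1 hs.2
      · intro e
        have h1 : C.hR.sPerm i s = C.pRoot i := Fin.ext e
        have h2 : s = C.pNeg i := by rw [← C.sPerm_pRoot, ← h1, C.hR.sPerm_sPerm]
        subst h2
        exact C.R.not_pos_and_neg hs.1 ((C.R.isNeg_neg_iff (C.R.simple_lt i)).2 (C.R.simple_pos i))
    set e := (m⁻¹ * v' * m) * (m⁻¹ * C.R.torus c * m) with he
    have heB : e ∈ D.borelSubgroup K := by
      refine mul_mem (le_sup_left (b := D.diagonalSubgroup K) (C.Usub_le i hmU)) ?_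
      have := C.conj_torus_mem_borel (inv_mem hmN) c
      simpa using this
    have hxG : ∀ t, x t ∈ D.group K := fun t => C.xGL_mem_group p t
    have hmG : m ∈ D.group K := C.nGL_mem_group p _
    refine ⟨m⁻¹ * x (-σ) * a⁻¹, mul_mem (mul_mem (inv_mem hmG) (hxG _)) (inv_mem (C.borel_le_group ha)),
      n * m, mul_mem hn hmN, w * s, Moves.mul C hw hmw, by omega, ?_⟩
    have htc : C.R.torus c * x σ = x (χ * σ) * C.R.torus c :=
      mul_inv_eq_iff_eq_mul.1 (C.acts_torus c (C.pRoot i) σ)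
    have hxx : ∀ t u, x (t + u) = x t * x u := C.xGL_add p
    have hxi : x (-σ) = (x σ)⁻¹ := (C.xGL_inv p σ).symm
    have hnx : n * x (τ + χ * σ) * n⁻¹ = x σ * m * x σ := by
      have h1 := hκ' (τ + χ * σ)
      rw [hcase] at h1
      have hz : κ * (τ + χ * σ) = σ⁻¹ :=
        eq_inv_of_mul_eq_one_right (by linear_combination hσ)
      rw [hz] at h1
      show n * C.xGL p (τ + χ * σ) * n⁻¹ = C.xGL p σ * C.nGL p (-σ) * C.xGL p σ
      rw [show n * C.xGL p (τ + χ * σ) * n⁻¹ = C.xGL (D.neg p) σ⁻¹ from h1,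
        C.xGL_neg_eq p (inv_ne_zero hσ0), inv_inv]
    refine C.mem_bigCell.2 ⟨x σ, C.pos_mem_borel (C.R.simple_pos i) σ, e, heB, ?_⟩
    calc m⁻¹ * x (-σ) * a⁻¹ * (a * n * b) * (m⁻¹ * x (-σ) * a⁻¹)⁻¹
        = m⁻¹ * x (-σ) * n * (b * a) * x σ * m := by rw [hxi]; group
      _ = m⁻¹ * x (-σ) * n * (v * x τ * (C.R.torus c * x σ)) * m := by
          rw [show b * a = v * x τ * C.R.torus c from hvc]; group
      _ = m⁻¹ * x (-σ) * n * (v * (x τ * x (χ * σ)) * C.R.torus c) * m := by rw [htc]; group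
      _ = m⁻¹ * x (-σ) * (n * x (τ + χ * σ) * n⁻¹) * n * v' * C.R.torus c * m := by
          rw [← hxx, hv']; group
      _ = x σ * (n * m) * e := by rw [hnx, hxi, he]; group
  · set n1 := (C.nS i)⁻¹ * n with hn1
    have hn1N : n1 ∈ D.monomialSubgroup K := mul_mem (inv_mem hsN) hn
    have hs_inv : C.Moves (C.nS i)⁻¹ s := by
      have := Moves.inv C hsN (Acts.moves C (C.acts_nS i))
      rwa [inv_eq_of_mul_eq_one_right (C.hR.sPerm_mul_self i)] at this
    have hn1w : C.Moves n1 (s * w) := Moves.mul C hs_inv hw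
    have hlen1 : (C.hR.invSet (s * w)).card + 1 = (C.hR.invSet w).card := by
      rw [← C.hR.card_invSet_inv hn1w.1, mul_inv_rev,
        inv_eq_of_mul_eq_one_right (C.hR.sPerm_mul_self i), ← hww]
      exact hws
    have hneg1 : D.IsNegRoot ((s * w) (C.pRoot i)) := by
      rw [Equiv.Perm.mul_apply]
      have hne' : ((w (C.pRoot i) : Fin D.nroots) : ℕ) ≠ D.neg p := fun e => hcase (Fin.ext e)
      rw [← C.R.isPos_neg_iff (s (w (C.pRoot i))).isLt, ← C.hR.apply_neg (C.hR.sPerm_mem i)]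
      refine C.hR.refl_pos i ?_ ?_
      · exact (C.R.isPos_neg_iff (w (C.pRoot i)).isLt).2 hi'
      · intro e
        refine hne' ?_
        rw [hp, ← e]
        exact (C.R.neg_neg _ (w (C.pRoot i)).isLt).symm
    have hlen2 := C.hR.invSet_mul_sPerm_of_neg hn1w.1 i hneg1
    refine ⟨n1 * (b * a) * a⁻¹, mul_mem (mul_mem (C.monomial_le_group hn1N) (C.borel_le_group hba))
      (inv_mem (C.borel_le_group ha)), ?_⟩
    have hy' : n1 * (b * a) * a⁻¹ * (a * n * b) * (n1 * (b * a) * a⁻¹)⁻¹ =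
        n1 * (b * a) * C.nS i := by
      rw [hn1]; group
    rw [hy']
    rcases C.mul_nS_mem i hn1N hba with h | h
    · exact ⟨n1 * C.nS i, mul_mem hn1N hsN, _,
        Moves.mul C hn1w (Acts.moves C (C.acts_nS i)), by omega, h⟩
    · exact ⟨n1, hn1N, _, hn1w, by omega, h⟩

/-- Every element of order dividing two is conjugate to a torus element. -/
theorem toTorus_of_sq [IsAlgClosed K] (hn : 0 < D.nroots) (p : ℕ) [Fact p.Prime] [CharP K p]
    (hp : p ≠ 2) {y : GL D.Idx K} (hy : y ∈ D.group K) (h2 : y * y = 1) : ToTorus C y := by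
  suffices h : ∀ k, ∀ y ∈ D.group K, y * y = 1 → ∀ n ∈ D.monomialSubgroup K, ∀ w,
      C.Moves n w → (C.hR.invSet w).card = k → y ∈ C.bigCell n → ToTorus C y by
    obtain ⟨n, hnN, hcell⟩ := C.exists_bigCell hy
    obtain ⟨w, hw, -⟩ := C.exists_moves hnN
    exact h _ y hy h2 n hnN w hw rfl hcell
  intro k
  induction k using Nat.strong_induction_on with
  | _ k ih =>
    intro y hy h2 n hnN w hw hk hcell
    by_cases hne : C.hR.invSet w = ∅
    · obtain rfl := C.hR.eq_one_of_invSet_eq_empty hw.1 hne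
      obtain ⟨a, ha, b, hb, rfl⟩ := C.mem_bigCell.1 hcell
      exact toTorus_of_borel C hn p hp (mul_mem (mul_mem ha
        (le_sup_right (a := D.posUnipotent K) (C.mem_diagonal_of_moves_one hnN hw))) hb) h2
    · obtain ⟨g, hg, n', hn', w', hw', hlt, hcell'⟩ := exists_shorter C h2 hnN hw hcell hne
      refine ToTorus.of_conj C hg (ih _ (hk ▸ hlt) _ (mul_mem (mul_mem hg hy) (inv_mem hg)) ?_
        n' hn' w' hw' rfl hcell')
      calc g * y * g⁻¹ * (g * y * g⁻¹) = g * (y * y) * g⁻¹ := by group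
        _ = 1 := by rw [h2]; group

end CfsgLib.ExcInvol
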