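import Cfsg.Agent.Lib.ExcInvol.DataE8B
import Cfsg.Agent.Lib.ExcInvol.ReflTabE8

/-!
Tables for the class of sign patterns of type E8 fixing roots of type D8.
-/

set_option autoImplicit false
set_option maxHeartbeats 4000000

namespace CfsgLib.ExcInvol.E8

open Cfsg.Lie CfsgLib.ChevStr

theorem rootsCheckFastB : tablesB.rootsCheckFast rootDataE8 maskB reflTab = true := by
  refine Bool.and_eq_true_iff.2 ⟨Bool.and_eq_true_iff.2 ⟨?_, ?_⟩,
    List.all_eq_true.2 fun b hb => ?_⟩
  · decide +kernel
  · decide +kernel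
  · have hb' : b < 8 := List.mem_range.1 hb
    interval_cases b <;> (clear hb; decide +kernel)

theorem rootsCheckB : tablesB.rootsCheck rootDataE8 maskB = true :=
  tablesB.rootsCheck_of_fast reflDataE8 maskB reflTab_eq rootsCheckFastB

end CfsgLib.ExcInvol.E8
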