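import Cfsg.Agent.Lib.ExcInvol.Mask
import Cfsg.Agent.Lib.CycTorus.Group

/-!
The roots killed by a sign pattern as a smaller root system: its Weyl group is the stabiliser of the
pattern, with the inversion statistics of the smaller system.
-/

set_option autoImplicit false

namespace CfsgLib.ExcInvol

open Cfsg.Lie CfsgLib.ChevStr CfsgLib.CycTorus

variable {D : ChevalleyDatum} {R : RootData D}

/-- A word in fundamental reflections applied to a root index. -/
def wordApply (D : ChevalleyDatum) (L : List (Fin D.rank)) (s : ℕ) : ℕ :=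
  L.foldr (fun i x => D.reflectRoot i.val x) s

/-- The word of the reflection at the image of a fundamental root under a word. -/
def reflWord {l : ℕ} (L : List (Fin l)) (k : Fin l) : List (Fin l) := L ++ [k] ++ L.reverse

theorem wordApply_eq (hR : ReflData R) : ∀ (L : List (Fin D.rank)) (s : Fin D.nroots),
    wordApply D L s = (hR.wordPerm L s : ℕ)
  | [], s => by simp [wordApply, ReflData.wordPerm]
  | i :: L, s => by
    rw [show hR.wordPerm (i :: L) = hR.sPerm i * hR.wordPerm L by simp [ReflData.wordPerm],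
      Equiv.Perm.mul_apply, hR.sPerm_val, ← wordApply_eq hR L s]
    rfl

theorem wordPerm_append (hR : ReflData R) (L M : List (Fin D.rank)) :
    hR.wordPerm (L ++ M) = hR.wordPerm L * hR.wordPerm M := by
  simp [ReflData.wordPerm]

theorem wordPerm_reverse (hR : ReflData R) : ∀ L : List (Fin D.rank),
    hR.wordPerm L.reverse = (hR.wordPerm L)⁻¹
  | [] => by simp [ReflData.wordPerm]
  | i :: L => by
    rw [List.reverse_cons, wordPerm_append, wordPerm_reverse hR L,
      show hR.wordPerm (i :: L) = hR.sPerm i * hR.wordPerm L by simp [ReflData.wordPerm], mul_inv_rev,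
      inv_eq_of_mul_eq_one_right (hR.sPerm_mul_self i)]
    simp [ReflData.wordPerm]

theorem wordPerm_reflWord (hR : ReflData R) (L : List (Fin D.rank)) (k : Fin D.rank) :
    hR.wordPerm (reflWord L k) = hR.wordPerm L * hR.sPerm k * (hR.wordPerm L)⁻¹ := by
  rw [reflWord, wordPerm_append, wordPerm_append, wordPerm_reverse]
  simp [ReflData.wordPerm]

/-- The tables describing the roots killed by a sign pattern as a root system. -/
structure SubCert (hR : ReflData R) (m : Mask D) where
  E : ChevalleyDatum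
  RE : RootData E
  hE : ReflData RE
  ι : Fin E.nroots → Fin D.nroots
  ι_inj : Function.Injective ι
  range_ι : ∀ s, (∃ x, ι x = s) ↔ par R m s = 0
  pos_iff : ∀ x : Fin E.nroots, E.IsPosRoot x ↔ D.IsPosRoot (ι x)
  word : Fin E.rank → List (Fin D.rank)
  node : Fin E.rank → Fin D.rank
  refl_ι : ∀ b x, wordApply D (reflWord (word b) (node b)) (ι x) = (ι (hE.sPerm b x) : ℕ)
  root_mem : ∀ b, par R m (wordApply D (word b) (D.simple (node b).val)) = 0
  B : Fin E.rank → Fin D.rank → ℤ
  d : ℕ
  d_pos : 0 < d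
  torus_spec : ∀ j k : Fin D.rank,
    ∑ b, D.cartan (node b).val (wordApply D (word b).reverse (D.simple j.val)) * B b k =
      if j = k then (d : ℤ) else 0
  Q : Fin D.rank → Fin E.rank → ℤ
  e : ℤ
  e_ne : e ≠ 0
  span_spec : ∀ j i : Fin D.rank,
    ∑ b, Q j b * R.α (ι ⟨E.simple b.val, RE.simple_lt b⟩) i = if i = j then e else 0
  card_eq : Nat.card hR.weyl = (orbitSet hR m).card * Nat.card hE.weyl

namespace SubCert

variable {hR : ReflData R} {m : Mask D} (T : SubCert hR m)

theorem par_ι (x : Fin T.E.nroots) : par R m (T.ι x) = 0 := (T.range_ι _).1 ⟨x, rfl⟩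

theorem neg_iff (x : Fin T.E.nroots) : T.E.IsNegRoot x ↔ D.IsNegRoot (T.ι x) := by
  constructor
  · intro h
    exact (R.pos_or_neg (T.ι x).isLt).resolve_left fun hp =>
      T.RE.not_pos_and_neg ((T.pos_iff x).2 hp) h
  · intro h
    exact (T.RE.pos_or_neg x.isLt).resolve_left fun hp =>
      R.not_pos_and_neg ((T.pos_iff x).1 hp) h

/-- The roots killed by the pattern, indexed by the smaller system. -/
noncomputable def equivRoots : Fin T.E.nroots ≃ {s : Fin D.nroots // par R m s = 0} :=
  Equiv.ofBijective (fun x => ⟨T.ι x, T.par_ι x⟩)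
    ⟨fun _ _ h => T.ι_inj (congrArg Subtype.val h), fun s => by
      obtain ⟨x, hx⟩ := (T.range_ι s.1).2 s.2
      exact ⟨x, Subtype.ext hx⟩⟩

/-- The permutation induced on the smaller system, as a function. -/
noncomputable def resFun (u : stab hR m) (x : Fin T.E.nroots) : Fin T.E.nroots :=
  T.equivRoots.symm ⟨(u : Equiv.Perm (Fin D.nroots)) (T.ι x), by
    rw [(stab_iff hR u.2.1).1 u.2, T.par_ι]⟩

theorem ι_resFun (u : stab hR m) (x : Fin T.E.nroots) :
    T.ι (T.resFun u x) = (u : Equiv.Perm (Fin D.nroots)) (T.ι x) :=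
  congrArg Subtype.val (T.equivRoots.apply_symm_apply _)

/-- The restriction of the stabiliser to the smaller system. -/
noncomputable def res : stab hR m →* Equiv.Perm (Fin T.E.nroots) where
  toFun u :=
    { toFun := T.resFun u
      invFun := T.resFun u⁻¹
      left_inv := fun x => T.ι_inj (by simp [ι_resFun, Equiv.Perm.inv_def])
      right_inv := fun x => T.ι_inj (by simp [ι_resFun, Equiv.Perm.inv_def]) }
  map_one' := Equiv.ext fun x => T.ι_inj (by simp [ι_resFun])
  map_mul' u v := Equiv.ext fun x => T.ι_inj (by simp [ι_resFun])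

theorem ι_res (u : stab hR m) (x : Fin T.E.nroots) :
    T.ι (T.res u x) = (u : Equiv.Perm (Fin D.nroots)) (T.ι x) := T.ι_resFun u x

theorem res_injective : Function.Injective T.res := by
  rw [injective_iff_map_eq_one]
  intro u hu
  have hfix : ∀ x, (u : Equiv.Perm (Fin D.nroots)) (T.ι x) = T.ι x := fun x => by
    rw [← T.ι_res, hu, Equiv.Perm.one_apply]
  refine Subtype.ext (eq_one_of_wMat hR u.2.1 (Matrix.ext fun i j => ?_))
  have hj : ∀ k : Fin D.rank, T.e • (Pi.single k 1 : Fin D.rank → ℤ) =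
      ∑ b, T.Q k b • R.α (T.ι ⟨T.E.simple b.val, T.RE.simple_lt b⟩) := fun k => by
    funext i
    rw [Finset.sum_apply]
    simp only [Pi.smul_apply, smul_eq_mul]
    rw [T.span_spec k i, Pi.single_apply]
    split <;> simp
  have h2 : (wMat R (u : Equiv.Perm (Fin D.nroots))).mulVec (T.e • (Pi.single j 1 : Fin D.rank → ℤ)) =
      T.e • (Pi.single j 1 : Fin D.rank → ℤ) := by
    rw [hj, Matrix.mulVec_sum]
    refine Finset.sum_congr rfl fun b _ => ?_
    rw [Matrix.mulVec_smul, wMat_mulVec hR u.2.1, hfix]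
  have h3 := congrFun h2 i
  rw [Matrix.mulVec_smul, Matrix.mulVec_single_one] at h3
  simp only [Pi.smul_apply, smul_eq_mul, Matrix.col_apply] at h3
  rw [mul_left_cancel₀ T.e_ne h3, Matrix.one_apply, Pi.single_apply]

/-- The reflections of the smaller system inside the Weyl group. -/
def gen (b : Fin T.E.rank) : Equiv.Perm (Fin D.nroots) := hR.wordPerm (reflWord (T.word b) (T.node b))

theorem gen_ι (b : Fin T.E.rank) (x : Fin T.E.nroots) : T.gen b (T.ι x) = T.ι (T.hE.sPerm b x) :=
  Fin.ext (by rw [gen, ← wordApply_eq, T.refl_ι])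

theorem gen_mem (b : Fin T.E.rank) : T.gen b ∈ stab hR m := by
  refine (stab_iff hR (hR.wordPerm_mem _)).2 fun s => ?_
  have h1 : par R m s = 0 ↔ par R m (T.gen b s) = 0 := by
    constructor
    · intro h
      obtain ⟨x, rfl⟩ := (T.range_ι s).2 h
      rw [T.gen_ι, T.par_ι]
    · intro h
      obtain ⟨y, hy⟩ := (T.range_ι _).2 h
      have : T.gen b (T.ι (T.hE.sPerm b y)) = T.gen b s := by rw [T.gen_ι, T.hE.sPerm_sPerm, hy]
      rw [← (T.gen b).injective this, T.par_ι]
  have h2 : ∀ a b : ZMod 2, (a = 0 ↔ b = 0) → b = a := by decide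
  exact h2 _ _ h1

theorem res_gen (b : Fin T.E.rank) : T.res ⟨T.gen b, T.gen_mem b⟩ = T.hE.sPerm b :=
  Equiv.ext fun x => T.ι_inj (by rw [T.ι_res, T.gen_ι])

include T in
theorem card_stab : Nat.card (stab hR m) = Nat.card T.hE.weyl := by
  have h := card_weyl_eq hR m
  rw [T.card_eq] at h
  have hpos : 0 < (orbitSet hR m).card :=
    Finset.card_pos.2 ⟨m, (mem_orbitSet hR).2 ⟨1, one_mem _, act_one hR m⟩⟩
  exact (Nat.eq_of_mul_eq_mul_left hpos h).symm

theorem range_res : T.res.range = T.hE.weyl := by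
  refine (Subgroup.eq_of_le_of_card_ge ((Subgroup.closure_le _).2 ?_) (le_of_eq ?_)).symm
  · rintro _ ⟨b, rfl⟩
    exact ⟨_, T.res_gen b⟩
  · rw [← Nat.card_congr (MonoidHom.ofInjective T.res_injective).toEquiv, T.card_stab]
    rfl

/-- The stabiliser is generated by the reflections of the smaller system. -/
theorem stab_le_closure : stab hR m ≤ Subgroup.closure (Set.range T.gen) := by
  intro u hu
  have hle : T.hE.weyl ≤
      ((Subgroup.closure (Set.range T.gen)).subgroupOf (stab hR m)).map T.res :=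
    (Subgroup.closure_le _).2 (by
      rintro _ ⟨b, rfl⟩
      exact ⟨⟨_, T.gen_mem b⟩, Subgroup.subset_closure ⟨b, rfl⟩, T.res_gen b⟩)
  have hmem : T.res ⟨u, hu⟩ ∈ T.hE.weyl := T.range_res ▸ MonoidHom.mem_range.2 ⟨⟨u, hu⟩, rfl⟩
  obtain ⟨v, hv, hvu⟩ := hle hmem
  rw [T.res_injective hvu] at hv
  exact hv

/-- The stabiliser as the smaller Weyl group. -/
noncomputable def equivWeyl : stab hR m ≃* T.hE.weyl :=
  (MonoidHom.ofInjective T.res_injective).trans (MulEquiv.subgroupCongr T.range_res)

theorem coe_equivWeyl (u : stab hR m) :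
    (T.equivWeyl u : Equiv.Perm (Fin T.E.nroots)) = T.res u := rfl

theorem card_invSet_res (u : stab hR m) :
    ((hR.invSet (u : Equiv.Perm (Fin D.nroots))).filter fun s => par R m (s : Fin D.nroots) = 0).card =
      (T.hE.invSet (T.res u)).card := by
  refine (Finset.card_bij (fun x _ => T.ι x) (fun x hx => ?_) (fun a _ b _ h => T.ι_inj h)
    fun s hs => ?_).symm
  · obtain ⟨h1, h2⟩ := T.hE.mem_invSet.1 hx
    refine Finset.mem_filter.2 ⟨hR.mem_invSet.2 ⟨(T.pos_iff x).1 h1, ?_⟩, T.par_ι x⟩
    rw [← T.ι_res, ← T.neg_iff]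
    exact h2
  · obtain ⟨hs1, hs2⟩ := Finset.mem_filter.1 hs
    obtain ⟨h1, h2⟩ := hR.mem_invSet.1 hs1
    obtain ⟨x, rfl⟩ := (T.range_ι s).2 hs2
    refine ⟨x, T.hE.mem_invSet.2 ⟨(T.pos_iff x).2 h1, ?_⟩, rfl⟩
    rw [T.neg_iff, T.ι_res]
    exact h2

/-- The inversion statistics of the stabiliser. -/
theorem sum_stab [Fintype (stab hR m)] (z : ℤ) :
    ∑ u : stab hR m, z ^ ((hR.invSet (u : Equiv.Perm (Fin D.nroots))).filter
        fun s => par R m (s : Fin D.nroots) = 0).card =
      T.hE.poincare Finset.univ z := by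
  rw [ReflData.poincare]
  refine Finset.sum_bij (fun u _ => T.res u) (fun u _ => ?_) (fun a _ b _ h => T.res_injective h)
    (fun w hw => ?_) (fun u _ => by rw [T.card_invSet_res])
  · rw [Set.Finite.mem_toFinset, SetLike.mem_coe, T.hE.weylSub_univ, ← T.range_res]
    exact ⟨u, rfl⟩
  · rw [Set.Finite.mem_toFinset, SetLike.mem_coe, T.hE.weylSub_univ, ← T.range_res] at hw
    obtain ⟨u, rfl⟩ := hw
    exact ⟨u, Finset.mem_univ _, rfl⟩

end SubCert

end CfsgLib.ExcInvol
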