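import Cfsg.Agent.Lib.ExcInvol.Cert
import Cfsg.Agent.Lib.ChevStr.WeylTables

/-!
The order of the Weyl group of type E8.
-/

set_option autoImplicit false

namespace CfsgLib.ExcInvol.E8

open Cfsg.Lie CfsgLib.ChevStr

theorem card_weyl : Nat.card reflDataE8.weyl = 696729600 :=
  card_weyl_of_chain reflDataE8 [(⟨7, by decide⟩, 58), (⟨6, by decide⟩, 28), (⟨5, by decide⟩, 17), (⟨0, by decide⟩, 9), (⟨2, by decide⟩, 7), (⟨1, by decide⟩, 4), (⟨3, by decide⟩, 3), (⟨4, by decide⟩, 2)] _ (by decide +kernel)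

end CfsgLib.ExcInvol.E8
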