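import Cfsg.Agent.Lib.ExcInvol.WeylE8A
import Cfsg.Agent.Lib.ExcInvol.RootsE8A

/-!
Tables for the class of sign patterns of type E8 fixing roots of type E7 + A1.
-/

set_option autoImplicit false
set_option maxHeartbeats 4000000

namespace CfsgLib.ExcInvol.E8

open Cfsg.Lie CfsgLib.ChevStr

theorem orbit_eqA : orbitSet reflDataE8 maskA = (maskA :: orbitA.map Prod.fst).toFinset :=
  orbitSet_eq reflDataE8 maskA orbitA (by decide +kernel) (closed_of_check (by decide +kernel))

theorem card_orbitA : (orbitSet reflDataE8 maskA).card = 120 := by
  rw [orbit_eqA]; decide +kernel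

/-- The subsystem certificate of pattern A. -/
noncomputable def subA : SubCert reflDataE8 maskA :=
  tablesA.toSubCert rootDataA reflDataA rootsCheckA (by decide +kernel)
    (by rw [card_weyl, card_orbitA, card_weylA])

end CfsgLib.ExcInvol.E8
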