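import Cfsg.Agent.Lib.ExcInvol.WeylE8B
import Cfsg.Agent.Lib.ExcInvol.RootsE8B

/-!
Tables for the class of sign patterns of type E8 fixing roots of type D8.
-/

set_option autoImplicit false
set_option maxHeartbeats 4000000

namespace CfsgLib.ExcInvol.E8

open Cfsg.Lie CfsgLib.ChevStr

theorem orbit_eqB : orbitSet reflDataE8 maskB = (maskB :: orbitB.map Prod.fst).toFinset :=
  orbitSet_eq reflDataE8 maskB orbitB (by decide +kernel) (closed_of_check (by decide +kernel))

theorem card_orbitB : (orbitSet reflDataE8 maskB).card = 135 := by
  rw [orbit_eqB]; decide +kernel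

/-- The subsystem certificate of pattern B. -/
noncomputable def subB : SubCert reflDataE8 maskB :=
  tablesB.toSubCert rootDataB reflDataB rootsCheckB (by decide +kernel)
    (by rw [card_weyl, card_orbitB, card_weylB])

end CfsgLib.ExcInvol.E8
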