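import Cfsg.Agent.Lib.ExcInvol.SubSystem
import Cfsg.Agent.Lib.ExcInvol.Cert
import Cfsg.Agent.Lib.ChevStr.WeylTables

/-!
Tables for the two classes of nonzero sign patterns of type F4 and the root systems they fix.
-/

set_option autoImplicit false

namespace CfsgLib.ExcInvol.F4

open Cfsg.Lie CfsgLib.ChevStr

theorem card_weyl : Nat.card reflDataF4.weyl = 1152 :=
  card_weyl_of_chain reflDataF4 [(⟨3, by decide⟩, 16), (⟨0, by decide⟩, 6), (⟨2, by decide⟩, 4), (⟨1, by decide⟩, 2)] _ (by decide +kernel)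

/-- The sign pattern A. -/
def maskA : Mask chevF4 := listMask chevF4 [0, 1, 0, 0]

/-- The roots fixed by the pattern A, as a datum. -/
def datumA : ChevalleyDatum where
  rank := 4
  nroots := 32
  simpleIdx := #[22, 19, 17, 16]
  negIdx := #[31, 30, 29, 28, 27, 26, 25, 24, 23, 22, 21, 20, 19, 18, 17, 16, 15, 14, 13, 12, 11, 10, 9, 8, 7, 6, 5, 4, 3, 2, 1, 0]
  coroot := #[#[-1, -2, -1, -2], #[-1, -2, -1, -1], #[-1, -2, 0, -1], #[-1, -1, -1, -1], #[-1, -1, 0, -1], #[-1, -1, 0, 0], #[-1, -2, -2, -2], #[-1, -2, 0, -2], #[-1, -2, 0, 0], #[-1, 0, 0, 0], #[0, -1, -1, -1], #[0, -1, 0, -1], #[0, -1, 0, 0], #[0, 0, -1, -1], #[0, 0, -1, 0], #[0, 0, 0, -1], #[0, 0, 0, 1], #[0, 0, 1, 0], #[0, 0, 1, 1], #[0, 1, 0, 0], #[0, 1, 0, 1], #[0, 1, 1, 1], #[1, 0, 0, 0], #[1, 2, 0, 0], #[1, 2, 0, 2], #[1, 2, 2, 2], #[1, 1, 0, 0], #[1, 1, 0, 1], #[1, 1, 1, 1], #[1, 2, 0, 1], #[1, 2, 1, 1], #[1, 2, 1, 2]]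
  cartanSR := #[#[0, 0, 0, -2, -2, -2, 0, 0, 0, -2, 2, 2, 2, 0, 0, 0, 0, 0, 0, -2, -2, -2, 2, 0, 0, 0, 2, 2, 2, 0, 0, 0], #[0, -1, -1, 1, 1, 0, 0, 0, -1, 1, -1, -1, -2, 1, 0, 1, -1, 0, -1, 2, 1, 1, -1, 1, 0, 0, 0, -1, -1, 1, 1, 0], #[0, -1, 1, -1, 1, 0, -1, 1, 0, 0, -1, 1, 0, -1, -2, 1, -1, 2, 1, 0, -1, 1, 0, 0, -1, 1, 0, -1, 1, -1, 1, 0], #[-1, 1, 0, 0, -1, 1, 0, -1, 1, 0, 0, -1, 1, -1, 1, -2, 2, -1, 1, -1, 1, 0, 0, -1, 1, 0, -1, 1, 0, 0, -1, 1]]
  chain := #[#[], #[], #[], #[], #[], #[], #[], #[], #[], #[(6, #[(3, 1)]), (7, #[(4, 1)]), (8, #[(5, 1)]), (10, #[(6, 1), (3, 1)]), (11, #[(7, 1), (4, 1)]), (12, #[(8, 1), (5, 1)]), (23, #[(19, 1)]), (24, #[(20, 1)]), (25, #[(21, 1)]), (26, #[(23, 1), (19, 1)]), (27, #[(24, 1), (20, 1)]), (28, #[(25, 1), (21, 1)])], #[], #[], #[(3, #[(1, 1)]), (4, #[(2, 1)]), (9, #[(8, 1)]), (13, #[(10, 1)]), (15, #[(11, 1)]), (20, #[(16, 1)]), (21, #[(18, 1)]), (23, #[(22,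 1)]), (29, #[(27, 1)]), (30, #[(28, 1)])], #[], #[(2, #[(1, 1)]), (4, #[(3, 1)]), (7, #[(6, 1)]), (11, #[(10, 1)]), (15, #[(13, 1)]), (18, #[(16, 1)]), (21, #[(20, 1)]), (25, #[(24, 1)]), (28, #[(27, 1)]), (30, #[(29, 1)])], #[(1, #[(0, 1)]), (5, #[(4, 1)]), (8, #[(7, 1)]), (12, #[(11, 1)]), (14, #[(13, 1)]), (18, #[(17, 1)]), (20, #[(19, 1)]), (24, #[(23, 1)]), (27, #[(26, 1)]), (31, #[(30, 1)])], #[(0, #[(1, 1)]), (4, #[(5, 1)]), (7, #[(8, 1)]), (11, #[(12, 1)]), (13, #[(14, 1)]), (17, #[(18, 1)]), (19, #[(20, 1)]), (23, #[(24, 1)]), (26, #[(27, 1)]), (30, #[(31, 1)])], #[(1, #[(2, 1)]), (3, #[(4, 1)]), (6, #[(7, 1)]), (10, #[(11, 1)]), (13, #[(15, 1)]), (16, #[(18, 1)]), (20, #[(21, 1)]), (24, #[(25, 1)]), (27, #[(28, 1)]), (29, #[(30, 1)])], #[], #[(1, #[(3, 1)]), (2, #[(4, 1)]), (8, #[(9, 1)]), (10, #[(13, 1)]), (11, #[(15, 1)]), (16, #[(20, 1)]), (18, #[(21, 1)]), (22, #[(23, 1)]), (27, #[(29,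 1)]), (28, #[(30, 1)])], #[], #[], #[(3, #[(6, 1), (10, 1)]), (4, #[(7, 1), (11, 1)]), (5, #[(8, 1), (12, 1)]), (6, #[(10, 1)]), (7, #[(11, 1)]), (8, #[(12, 1)]), (19, #[(23, 1), (26, 1)]), (20, #[(24, 1), (27, 1)]), (21, #[(25, 1), (28, 1)]), (23, #[(26, 1)]), (24, #[(27, 1)]), (25, #[(28, 1)])], #[], #[], #[], #[], #[], #[], #[], #[], #[]]

/-- Packed coefficient columns of the roots of pattern A. -/
def coefA : List ℕ :=
  [0xaaaaaa99998888888888887777666666, 0xaaa99999989998888887778777777666, 0x99898898889889988778878887887877, 0xa9999899889989897878778877877776]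

/-- Packed keys of the roots of pattern A. -/
def keyA : ℕ :=
  0x80000000000820428000000000082041800000000008200180000000000810418000000000081001800000000008100080000000000410418000000000041001800000000004100080000000000400008000000000001041800000000000100180000000000010008000000000000041800000000000004080000000000000017fffffffffffffff7fffffffffffffc07fffffffffffffbf7ffffffffffff0007fffffffffffefff7fffffffffffefbf7ffffffffffc00007ffffffffffbf0007ffffffffffbefff7ffffffffffbefbf7ffffffffff7f0007ffffffffff7efff7ffffffffff7efbf7ffffffffff7dfff7ffffffffff7dfbf7ffffffffff7dfbe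

theorem rootCheckA : rootCheck datumA (packedCoef datumA.rank coefA) keyA = true := by decide +kernel

/-- Root data of the roots of pattern A. -/
def rootDataA : RootData datumA := RootData.ofCheck _ _ rootCheckA

theorem reflDataA : ReflData rootDataA := ReflData.ofCheck (by decide +kernel)

/-- The orbit of the pattern A, each entry a flip of an earlier one. -/
def orbitA : List (Mask chevF4 × Fin chevF4.rank) :=
  [(listMask chevF4 [1, 1, 0, 0], ⟨1, by decide⟩), (listMask chevF4 [1, 0, 0, 0], ⟨0, by decide⟩)]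

theorem orbit_eqA : orbitSet reflDataF4 maskA = (maskA :: orbitA.map Prod.fst).toFinset :=
  orbitSet_eq reflDataF4 maskA orbitA (by decide +kernel) (by decide +kernel)

theorem card_orbitA : (orbitSet reflDataF4 maskA).card = 3 := by
  rw [orbit_eqA]; decide +kernel

theorem card_weylA : Nat.card reflDataA.weyl = 384 :=
  card_weyl_of_chain reflDataA [(⟨2, by decide⟩, 8), (⟨3, by decide⟩, 6), (⟨0, by decide⟩, 4), (⟨1, by decide⟩, 2)] _ (by decide +kernel)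

theorem poincareA (q : ℤ) :
    reflDataA.poincare Finset.univ q * (q - 1) ^ datumA.rank =
      ([2, 4, 6, 8].map fun d : ℕ => q ^ d - 1).prod :=
  reflDataA.poincare_of_check [(⟨2, by decide⟩, 8), (⟨3, by decide⟩, 6), (⟨0, by decide⟩, 4), (⟨1, by decide⟩, 2)] _ (by decide)
    (by decide +kernel) q

theorem ncard_posA : Set.ncard {r | datumA.IsPosRoot r} = 16 := ncard_isPosRoot (by decide +kernel)

/-- The tables of pattern A. -/
def tablesA : Tables chevF4 datumA where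
  ι := [0, 1, 2, 4, 5, 6, 8, 9, 10, 14, 15, 16, 17, 21, 22, 23, 24, 25, 26, 30, 31, 32, 33, 37, 38, 39, 41, 42, 43, 45, 46, 47]
  κ := [0, 1, 2, 0, 3, 4, 5, 0, 6, 7, 8, 0, 0, 0, 9, 10, 11, 12, 0, 0, 0, 13, 14, 15, 16, 17, 18, 0, 0, 0, 19, 20, 21, 22, 0, 0, 0, 23, 24, 25, 0, 26, 27, 28, 0, 29, 30, 31]
  word := [[], [1], [], []]
  node := [0, 2, 2, 3]
  B := [[2, 3, 2, 1], [3, 6, 4, 2], [1, 2, 2, 1], [2, 4, 3, 2]]
  d := 1
  Q := [[2, 0, 0, 0], [0, 1, -1, 0], [0, 0, 2, 0], [0, 0, 0, 2]]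
  e := 2

/-- The subsystem certificate of pattern A. -/
noncomputable def subA : SubCert reflDataF4 maskA :=
  tablesA.toSubCert rootDataA reflDataA (by decide +kernel) (by decide +kernel)
    (by rw [card_weyl, card_orbitA, card_weylA])

/-- The sign pattern B. -/
def maskB : Mask chevF4 := listMask chevF4 [0, 0, 0, 1]

/-- The roots fixed by the pattern B, as a datum. -/
def datumB : ChevalleyDatum where
  rank := 4
  nroots := 20
  simpleIdx := #[19, 14, 11, 10]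
  negIdx := #[19, 18, 17, 16, 15, 14, 13, 12, 11, 10, 9, 8, 7, 6, 5, 4, 3, 2, 1, 0]
  coroot := #[#[-1, 0, 0, 0], #[0, -1, -1, -1], #[0, -1, -2, -2], #[0, -1, -1, -2], #[0, -1, -1, 0], #[0, -1, 0, 0], #[0, 0, -1, -1], #[0, 0, -1, -2], #[0, 0, -1, 0], #[0, 0, 0, -1], #[0, 0, 0, 1], #[0, 0, 1, 0], #[0, 0, 1, 2], #[0, 0, 1, 1], #[0, 1, 0, 0], #[0, 1, 1, 0], #[0, 1, 1, 2], #[0, 1, 2, 2], #[0, 1, 1, 1], #[1, 0, 0, 0]]
  cartanSR := #[#[-2, 0, 0, 0, 0, 0, 0, 0, 0, 0, 0, 0, 0, 0, 0, 0, 0, 0, 0, 2], #[0, -2, 0, -1, -1, -2, 2, 1, 1, 0, 0, -1, -1, -2, 2, 1, 1, 0, 2, 0], #[0, 0, -1, 1, -1, 1, -2, 0, -2, 2, -2, 2, 0, 2, -1, 1, -1, 1, 0, 0], #[0, 0, 0, -1, 1, 0, 0, -1, 1, -2, 2, -1, 1, 0, 0, -1, 1, 0, 0, 0]]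
  chain := #[#[], #[], #[], #[], #[], #[(2, #[(1, 1)]), (6, #[(2, 1), (1, 1)]), (7, #[(3, 1)]), (8, #[(4, 1)]), (15, #[(11, 1)]), (16, #[(12, 1)]), (17, #[(13, 1)]), (18, #[(17, 1), (13, 1)])], #[], #[], #[(3, #[(2, 1)]), (5, #[(4, 1)]), (7, #[(6, 1)]), (9, #[(7, 1), (6, 1)]), (12, #[(10, 1)]), (13, #[(12, 1), (10, 1)]), (15, #[(14, 1)]), (17, #[(16, 1)])], #[(4, #[(3, 1)]), (8, #[(7, 1)]), (12, #[(11, 1)]), (16, #[(15, 1)])], #[(3, #[(4, 1)]), (7, #[(8, 1)]), (11, #[(12, 1)]), (15, #[(16, 1)])], #[(2, #[(3, 1)]), (4, #[(5, 1)]), (6, #[(7, 1), (9, 1)]), (7, #[(9, 1)]), (10, #[(12, 1), (13, 1)]), (12, #[(13, 1)]), (14, #[(15, 1)]), (16, #[(17, 1)])], #[], #[], #[(1, #[(2, 1), (6, 1)]), (2, #[(6, 1)]), (3, #[(7, 1)]), (4, #[(8, 1)]), (11, #[(15, 1)]), (12, #[(16, 1)]), (13, #[(17, 1), (18, 1)]), (17, #[(18, 1)])], #[], #[], #[], #[], #[]]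

/-- Packed coefficient columns of the roots of pattern B. -/
def coefB : List ℕ :=
  [0x98888888888888888887, 0x8a999988888888777768, 0x8aa998a9988776877668, 0x89998899897877887778]

/-- Packed keys of the roots of pattern B. -/
def keyB : ℕ :=
  0x80000000000400008000000000002081800000000000108180000000000010418000000000001040800000000000100080000000000000818000000000000041800000000000004080000000000000017fffffffffffffff7fffffffffffffc07fffffffffffffbf7fffffffffffff7f7ffffffffffff0007fffffffffffefc07fffffffffffefbf7fffffffffffef7f7fffffffffffdf7f7ffffffffffc0000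

theorem rootCheckB : rootCheck datumB (packedCoef datumB.rank coefB) keyB = true := by decide +kernel

/-- Root data of the roots of pattern B. -/
def rootDataB : RootData datumB := RootData.ofCheck _ _ rootCheckB

theorem reflDataB : ReflData rootDataB := ReflData.ofCheck (by decide +kernel)

/-- The orbit of the pattern B, each entry a flip of an earlier one. -/
def orbitB : List (Mask chevF4 × Fin chevF4.rank) :=
  [(listMask chevF4 [0, 0, 1, 1], ⟨3, by decide⟩), (listMask chevF4 [0, 1, 1, 0], ⟨2, by decide⟩), (listMask chevF4 [1, 1, 1, 0], ⟨1, by decide⟩), (listMask chevF4 [1, 0, 1, 0], ⟨0, by decide⟩), (listMask chevF4 [1, 0, 1, 1], ⟨2, by decide⟩), (listMask chevF4 [1, 1, 1, 1], ⟨2, by decide⟩), (listMask chevF4 [1, 0, 0, 1], ⟨3, by decide⟩), (listMask chevF4 [0, 1, 1, 1], ⟨1, by decide⟩), (listMask chevF4 [1, 1, 0, 1], ⟨3, by decide⟩), (listMask chevF4 [0, 0, 1, 0], ⟨2, by decide⟩), (listMask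 chevF4 [0, 1, 0, 1], ⟨3, by decide⟩)]

theorem orbit_eqB : orbitSet reflDataF4 maskB = (maskB :: orbitB.map Prod.fst).toFinset :=
  orbitSet_eq reflDataF4 maskB orbitB (by decide +kernel) (by decide +kernel)

theorem card_orbitB : (orbitSet reflDataF4 maskB).card = 12 := by
  rw [orbit_eqB]; decide +kernel

theorem card_weylB : Nat.card reflDataB.weyl = 96 :=
  card_weyl_of_chain reflDataB [(⟨0, by decide⟩, 2), (⟨1, by decide⟩, 6), (⟨2, by decide⟩, 4), (⟨3, by decide⟩, 2)] _ (by decide +kernel)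

theorem poincareB (q : ℤ) :
    reflDataB.poincare Finset.univ q * (q - 1) ^ datumB.rank =
      ([2, 2, 4, 6].map fun d : ℕ => q ^ d - 1).prod :=
  reflDataB.poincare_of_check [(⟨0, by decide⟩, 2), (⟨1, by decide⟩, 6), (⟨2, by decide⟩, 4), (⟨3, by decide⟩, 2)] _ (by decide)
    (by decide +kernel) q

theorem ncard_posB : Set.ncard {r | datumB.IsPosRoot r} = 10 := ncard_isPosRoot (by decide +kernel)

/-- The tables of pattern B. -/
def tablesB : Tables chevF4 datumB where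
  ι := [0, 6, 10, 12, 13, 14, 17, 19, 20, 22, 25, 27, 28, 30, 33, 34, 35, 37, 41, 47]
  κ := [0, 0, 0, 0, 0, 0, 1, 0, 0, 0, 2, 0, 3, 4, 5, 0, 0, 6, 0, 7, 8, 0, 9, 0, 0, 10, 0, 11, 12, 0, 13, 0, 0, 14, 15, 16, 0, 17, 0, 0, 0, 18, 0, 0, 0, 0, 0, 19]
  word := [[3, 2, 1, 0, 2, 1, 2], [], [], []]
  node := [3, 0, 1, 2]
  B := [[2, 4, 3, 2], [2, 2, 1, 0], [2, 4, 2, 0], [2, 4, 3, 0]]
  d := 2
  Q := [[0, 2, 0, 0], [0, 0, 2, 0], [0, 0, 0, 2], [1, -2, -4, -3]]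
  e := 2

/-- The subsystem certificate of pattern B. -/
noncomputable def subB : SubCert reflDataF4 maskB :=
  tablesB.toSubCert rootDataB reflDataB (by decide +kernel) (by decide +kernel)
    (by rw [card_weyl, card_orbitB, card_weylB])

end CfsgLib.ExcInvol.F4
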