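import Cfsg.Agent.Lib.ExcInvol.SubSystem
import Cfsg.Agent.Lib.CycTorus.Coords
import Cfsg.Agent.Lib.LangConnected.Chevalley
import Mathlib.FieldTheory.IsAlgClosed.Basic

/-!
Torus elements of order two given by sign patterns: their conjugates, and their centralisers as the
groups generated by the root subgroups they fix.
-/

set_option autoImplicit false

namespace CfsgLib.ExcInvol

open Cfsg.Lie CfsgLib.ChevStr CfsgLib.CycTorus CfsgLib.ChevField
open ChevCore
open scoped MatrixGroups

section Sign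

variable {K : Type*} [Field K]

/-- The sign of a parity. -/
def sgn (a : ZMod 2) : Kˣ := if a = 0 then 1 else -1

theorem sgn_zero : sgn (K := K) 0 = 1 := rfl

theorem sgn_one : sgn (K := K) 1 = -1 := if_neg one_ne_zero

theorem sgn_add (a b : ZMod 2) : sgn (K := K) (a + b) = sgn a * sgn b := by
  have h : ∀ x : ZMod 2, x = 0 ∨ x = 1 := by decide
  have h11 : (1 : ZMod 2) + 1 = 0 := by decide
  rcases h a with rfl | rfl <;> rcases h b with rfl | rfl <;>
    simp [h11, sgn_zero, sgn_one]

/-- The sign as a homomorphism. -/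
def sgnHom : ZMod 2 →+ Additive Kˣ where
  toFun a := Additive.ofMul (sgn a)
  map_zero' := rfl
  map_add' a b := congrArg Additive.ofMul (sgn_add a b)

theorem sgn_zsmul (n : ℤ) (a : ZMod 2) : sgn (K := K) (n • a) = sgn a ^ n :=
  congrArg Additive.toMul (map_zsmul (sgnHom (K := K)) n a)

theorem sgn_sum {ι : Type*} (s : Finset ι) (f : ι → ZMod 2) :
    sgn (K := K) (∑ i ∈ s, f i) = ∏ i ∈ s, sgn (f i) :=
  congrArg Additive.toMul (map_sum (sgnHom (K := K)) f s)

variable [NeZero (2 : K)]

theorem neg_one_ne_one_units : (-1 : Kˣ) ≠ 1 := fun h => by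
  have h1 : (-1 : K) = 1 := congrArg Units.val h
  exact NeZero.ne (2 : K) (by linear_combination -h1)

theorem sgn_eq_one_iff {a : ZMod 2} : sgn (K := K) a = 1 ↔ a = 0 := by
  unfold sgn
  split_ifs with h <;> simp [h, neg_one_ne_one_units]

theorem sgn_injective : Function.Injective (sgn (K := K)) := fun a b h => by
  have h1 : sgn (K := K) (a + b) = 1 := by
    rw [sgn_add, h, ← sgn_add, (by decide : ∀ x : ZMod 2, x + x = 0) b, sgn_zero]
  rw [sgn_eq_one_iff] at h1
  exact (by decide : ∀ x y : ZMod 2, x + y = 0 → x = y) a b h1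

end Sign

section Tor

variable {D : ChevalleyDatum} {K : Type*} [Field K]

/-- The parameter with a given sign pattern on the fundamental roots. -/
def signPar (N : Matrix (Fin D.rank) (Fin D.rank) ℤ) (m : Mask D) : Fin D.rank → Kˣ :=
  monMap N fun j => sgn (m j)

variable (C : ChevCore D K) {N : Matrix (Fin D.rank) (Fin D.rank) ℤ} (hN : N * cartanMat D = 1)

include hN

theorem coords_signPar (m : Mask D) : coords (D := D) (signPar (K := K) N m) = fun j => sgn (m j) :=
  monMap_inv' hN _

theorem torusChar_signPar (m : Mask D) (v : Fin D.rank → ℤ) :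
    C.R.torusChar (signPar (K := K) N m) v = sgn (parv m v) := by
  rw [torusChar_eq_chi, coords_signPar hN, chi]
  show _ = sgn (∑ j, m j * (v j : ZMod 2))
  rw [sgn_sum]
  refine Finset.prod_congr rfl fun j _ => ?_
  rw [mul_comm, ← zsmul_eq_mul, sgn_zsmul]

theorem torusChar_signPar_root (m : Mask D) (s : ℕ) :
    C.R.torusChar (signPar (K := K) N m) (C.R.α s) = sgn (par C.R m s) := torusChar_signPar C hN m _

theorem torus_signPar_sq (m : Mask D) :
    C.R.torus (signPar (K := K) N m) * C.R.torus (signPar (K := K) N m) = 1 := by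
  rw [← map_mul, C.torus_eq_one_iff]
  show coords (D := D) (signPar (K := K) N m * signPar N m) = fun _ => 1
  rw [← sq, coords_pow, coords_signPar hN]
  funext j
  rw [Pi.pow_apply, sq, ← sgn_add, (by decide : ∀ x : ZMod 2, x + x = 0) (m j), sgn_zero]

omit hN in
/-- Torus elements of order dividing two have sign patterns. -/
theorem exists_mask (hN : N * cartanMat D = 1) {c : Fin D.rank → Kˣ}
    (h : C.R.torus c * C.R.torus c = 1) : ∃ m, C.R.torus c = C.R.torus (signPar (K := K) N m) := by
  rw [← map_mul, C.torus_eq_one_iff] at h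
  have h' : coords (D := D) (c ^ 2) = fun _ => 1 := by rw [sq]; exact h
  rw [coords_pow] at h'
  have hpm : ∀ j, coords (D := D) c j = 1 ∨ coords (D := D) c j = -1 := fun j => by
    have h1 := congrArg Units.val (congrFun h' j)
    simp only [Pi.pow_apply, Units.val_pow_eq_pow_val, Units.val_one, sq_eq_one_iff] at h1
    exact h1.imp (fun e => Units.ext e) (fun e => Units.ext e)
  classical
  refine ⟨fun j => if coords (D := D) c j = 1 then 0 else 1, ?_⟩
  rw [torus_eq_iff, coords_signPar hN]
  funext j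
  show coords (D := D) c j = sgn (if coords (D := D) c j = 1 then 0 else 1)
  split_ifs with h0
  · rw [sgn_zero, h0]
  · rw [sgn_one]
    exact (hpm j).resolve_left h0

variable [NeZero (2 : K)]

theorem torus_signPar_injective : Function.Injective fun m : Mask D => C.R.torus (signPar (K := K) N m) := by
  intro a b h
  rw [torus_eq_iff, coords_signPar hN, coords_signPar hN] at h
  exact funext fun j => sgn_injective (congrFun h j)

theorem torus_signPar_ne_one {m : Mask D} (hm : m ≠ 0) : C.R.torus (signPar (K := K) N m) ≠ 1 := fun h => by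
  refine hm (torus_signPar_injective C hN ?_)
  show C.R.torus (signPar (K := K) N m) = C.R.torus (signPar (K := K) N 0)
  rw [h, eq_comm, C.torus_eq_one_iff]
  show coords (D := D) (signPar (K := K) N (0 : Mask D)) = fun _ => 1
  rw [coords_signPar hN]
  funext j
  exact sgn_zero

omit [NeZero (2 : K)] in
theorem moves_conj {n : GL D.Idx K} (hn : n ∈ D.monomialSubgroup K) {w : Equiv.Perm (Fin D.nroots)}
    (hw : C.Moves n w) (m : Mask D) :
    n * C.R.torus (signPar (K := K) N m) * n⁻¹ = C.R.torus (signPar (K := K) N (act C.hR w m)) := by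
  have hd : n * C.R.torus (signPar (K := K) N m) * n⁻¹ ∈ D.diagonalSubgroup K :=
    C.conj_diagonal_mem hn (by rw [C.diagonalSubgroup_eq]; exact ⟨_, rfl⟩)
  rw [C.diagonalSubgroup_eq] at hd
  obtain ⟨b, hb⟩ := hd
  rw [← hb, torus_eq_iff, coords_signPar hN]
  funext j
  set r : Fin D.nroots := w⁻¹ ⟨D.simple j.val, C.R.simple_lt j⟩ with hr
  have h1 := torusChar_conj C hn hw hb.symm (C.R.α r)
  rw [wMat_mulVec C.hR hw.1, hr, Equiv.Perm.inv_def, Equiv.apply_symm_apply, C.R.α_simple,
    torusChar_eq_chi, chi_single] at h1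
  rw [h1, ← Equiv.Perm.inv_def, torusChar_signPar_root C hN]
  rfl

omit [NeZero (2 : K)] in
/-- Conjugate sign patterns give conjugate elements. -/
theorem exists_conj_of_mem_orbit {m m' : Mask D} (h : m' ∈ orbitSet C.hR m) :
    ∃ n ∈ D.group K, n * C.R.torus (signPar (K := K) N m) * n⁻¹ = C.R.torus (signPar (K := K) N m') := by
  obtain ⟨w, hw, rfl⟩ := (mem_orbitSet C.hR).1 h
  obtain ⟨n, hn, hacts⟩ := C.exists_rep hw
  have hnm := C.rep_mem_monomial hn
  exact ⟨n, C.monomial_le_group hnm, moves_conj C hN hnm (Acts.moves C hacts) m⟩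

/-- Conjugate elements have conjugate sign patterns. -/
theorem mem_orbit_of_conj {m m' : Mask D} {g : GL D.Idx K} (hg : g ∈ D.group K)
    (h : g * C.R.torus (signPar (K := K) N m) * g⁻¹ = C.R.torus (signPar (K := K) N m')) :
    m' ∈ orbitSet C.hR m := by
  obtain ⟨w, hw, n, hn, hnw, hma, -⟩ := intertwine C hg h
  rw [moves_conj C hN hn hnw] at hma
  exact (mem_orbitSet C.hR).2 ⟨w, hw, torus_signPar_injective C hN hma⟩

omit [NeZero (2 : K)] in
theorem xGL_commute {m : Mask D} {s : Fin D.nroots} (hs : par C.R m s = 0) (t : K) :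
    C.R.torus (signPar (K := K) N m) * C.xGL s t = C.xGL s t * C.R.torus (signPar (K := K) N m) := by
  have h := C.acts_torus (signPar (K := K) N m) s t
  rw [torusChar_signPar_root C hN, hs, sgn_zero, Units.val_one, one_mul, mul_inv_eq_iff_eq_mul] at h
  exact h

omit [NeZero (2 : K)] in
theorem Ucl_commute {m : Mask D} {S : Set ℕ} (hS : ∀ r ∈ S, par C.R m r = 0) {u : GL D.Idx K}
    (hu : u ∈ C.Ucl S) : C.R.torus (signPar (K := K) N m) * u = u * C.R.torus (signPar (K := K) N m) := by
  have hle : C.Ucl S ≤ Subgroup.centralizer {C.R.torus (signPar (K := K) N m)} := C.Ucl_le fun r hr t => by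
    rw [Subgroup.mem_centralizer_singleton_iff]
    by_cases hrn : r < D.nroots
    · exact (xGL_commute C hN (s := ⟨r, hrn⟩) (hS r hr) t).symm
    · rw [C.xGL_of_le (not_lt.1 hrn), one_mul, mul_one]
  exact (Subgroup.mem_centralizer_singleton_iff.1 (hle hu)).symm

omit hN [NeZero (2 : K)] in
theorem isClosed_fixed {T : Set ℕ} (hT : C.R.IsClosed T) (m : Mask D) :
    C.R.IsClosed {r | r ∈ T ∧ par C.R m r = 0} := by
  refine ⟨fun r hr => hT.1 r hr.1, ?_⟩
  rintro r ⟨hr, hr0⟩ s ⟨hs, hs0⟩ k hk
  refine ⟨hT.2 r hr s hs k hk, ?_⟩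
  obtain ⟨-, a, b, -, -, hab⟩ := hk
  rw [par] at hr0 hs0 ⊢
  rw [hab, map_add, map_zsmul, map_zsmul, hr0, hs0, smul_zero, smul_zero, add_zero]

theorem mem_Ucl_fixed {m : Mask D} {T : Set ℕ} (hT : C.R.IsClosed T) {u : GL D.Idx K}
    (hu : u ∈ C.Ucl T) (h : C.R.torus (signPar (K := K) N m) * u = u * C.R.torus (signPar (K := K) N m)) :
    u ∈ C.Ucl {r | r ∈ T ∧ par C.R m r = 0} := by
  classical
  have hset := C.setOf_mem_rootList (S := T) fun r hr => (hT.1 r hr).1
  obtain ⟨t, rfl⟩ := C.exists_word (L := C.rootList T) (sorted_filter _) (by rwa [hset]) u (by rwa [hset])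
  have hmemT : ∀ r ∈ C.rootList T, r ∈ T := fun r hr => (Set.ext_iff.1 hset r).1 hr
  have hconj : ∀ L : List ℕ, C.R.torus (signPar (K := K) N m) * C.word L t * (C.R.torus (signPar (K := K) N m))⁻¹ =
      C.word L (fun r => if r < D.nroots then ((sgn (par C.R m r) : Kˣ) : K) * t r else t r) := by
    intro L
    induction L with
    | nil => simp [word_nil]
    | cons k L ih =>
      rw [word_cons, word_cons, ← ih]
      by_cases hk : k < D.nroots
      · rw [if_pos hk, ← torusChar_signPar_root C hN m k, ← C.acts_torus _ ⟨k, hk⟩ (t k)]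
        group
      · rw [if_neg hk, C.xGL_of_le (not_lt.1 hk)]
        group
  have hfix := hconj (C.rootList T)
  rw [h, mul_inv_cancel_right] at hfix
  have hcoef := C.word_injective (sorted_filter _) (fun r hr => hT.1 r (hmemT r hr)) _ _ hfix
  rw [word, wordGL]
  refine Subgroup.list_prod_mem _ fun x hx => ?_
  simp only [List.map_map, List.mem_map, Function.comp] at hx
  obtain ⟨r, hr, rfl⟩ := hx
  by_cases hp : par C.R m r = 0
  · exact C.xGL_mem_Ucl (S := {r | r ∈ T ∧ par C.R m r = 0}) ⟨hmemT r hr, hp⟩ _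
  · have h1 := hcoef r hr
    rw [if_pos (hT.1 r (hmemT r hr)).1] at h1
    have ht : t r = 0 := by
      by_contra ht
      exact hp (sgn_eq_one_iff.1 (Units.ext ((mul_eq_right₀ ht).1 h1.symm)))
    rw [ht, C.xGL_zero]
    exact one_mem _

omit [NeZero (2 : K)] in
theorem monomial_commute {m : Mask D} {n : GL D.Idx K} (hn : n ∈ D.monomialSubgroup K)
    {w : Equiv.Perm (Fin D.nroots)} (hw : C.Moves n w) (hst : w ∈ stab C.hR m) :
    n * C.R.torus (signPar (K := K) N m) = C.R.torus (signPar (K := K) N m) * n := by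
  rw [← mul_inv_eq_iff_eq_mul, moves_conj C hN hn hw, hst.2]

omit hN [NeZero (2 : K)] in
/-- The curves through the root subgroups fixed by a sign pattern. -/
noncomputable def levCurves (m : Mask D) : LangConnected.Curves D.Idx K where
  J := {s : Fin D.nroots // par C.R m s = 0}
  x j t := C.xGL j.1 t
  poly j := LangConnected.xPoly K j.1
  hpoly j t := (LangConnected.chevCurves C).hpoly j.1 t
  hzero _ := C.xGL_zero _
  hinv _ t := C.xGL_inv _ t

omit hN [NeZero (2 : K)] in
theorem xGL_mem_lev {m : Mask D} {r : ℕ} (hr : r < D.nroots) (h : par C.R m r = 0) (t : K) :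
    C.xGL r t ∈ (levCurves C m).group :=
  Subgroup.subset_closure ⟨⟨⟨r, hr⟩, h⟩, t, rfl⟩

omit hN [NeZero (2 : K)] in
theorem lev_le_group (m : Mask D) : (levCurves C m).group ≤ D.group K :=
  (Subgroup.closure_le _).2 (by rintro _ ⟨j, t, rfl⟩; exact C.xGL_mem_group _ _)

omit [NeZero (2 : K)] in
theorem lev_commute {m : Mask D} {g : GL D.Idx K} (hg : g ∈ (levCurves C m).group) :
    C.R.torus (signPar (K := K) N m) * g = g * C.R.torus (signPar (K := K) N m) := by
  have hle : (levCurves C m).group ≤ Subgroup.centralizer {C.R.torus (signPar (K := K) N m)} :=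
    (Subgroup.closure_le _).2 (by
      rintro _ ⟨j, t, rfl⟩
      rw [SetLike.mem_coe, Subgroup.mem_centralizer_singleton_iff]
      exact (xGL_commute C hN j.2 t).symm)
  exact (Subgroup.mem_centralizer_singleton_iff.1 (hle hg)).symm

omit hN [NeZero (2 : K)] in
theorem nGL_mem_lev {m : Mask D} {r : ℕ} (hr : r < D.nroots) (h : par C.R m r = 0) (t : K) :
    C.nGL r t ∈ (levCurves C m).group := by
  rw [nGL, ChevalleyDatum.nWord, C.wordGL_cons, C.wordGL_cons, C.wordGL_cons, C.wordGL_nil, mul_one]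
  refine mul_mem (xGL_mem_lev C hr h _) (mul_mem (xGL_mem_lev C (C.R.neg_lt r hr) ?_ _)
    (xGL_mem_lev C hr h _))
  rw [par] at h ⊢
  rw [C.R.α_neg r hr, map_neg, h, neg_zero]

variable {m : Mask D}

omit hN [NeZero (2 : K)] in
/-- Every torus element lies in the group of the fixed root subgroups. -/
theorem torus_mem_lev [IsAlgClosed K] (T : SubCert C.hR m) (c : Fin D.rank → Kˣ) :
    C.R.torus c ∈ (levCurves C m).group := by
  classical
  have hx : ∀ k : Fin D.rank, ∃ g : Kˣ, g ^ T.d = coords (D := D) c k := fun k => by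
    obtain ⟨g, hg⟩ := IsAlgClosed.exists_pow_nat_eq ((coords (D := D) c k : Kˣ) : K) T.d_pos
    have hg0 : g ≠ 0 := fun e => (coords (D := D) c k).ne_zero
      (by rw [← hg, e, zero_pow T.d_pos.ne'])
    exact ⟨Units.mk0 g hg0, Units.ext (by simp [hg])⟩
  choose g hg using hx
  set u : Fin T.E.rank → Kˣ := fun b => ∏ k, g k ^ T.B b k with hu
  have hkey : ∀ b : Fin T.E.rank, ∃ c' : Fin D.rank → Kˣ, C.R.torus c' ∈ (levCurves C m).group ∧
      ∀ j, coords (D := D) c' j =
        u b ^ D.cartan (T.node b).val (wordApply D (T.word b).reverse (D.simple j.val)) := by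
    intro b
    set w := C.hR.wordPerm (T.word b) with hw
    have hwm : w ∈ C.hR.weyl := C.hR.wordPerm_mem _
    obtain ⟨n, hn, hacts⟩ := C.exists_rep hwm
    have hnm := C.rep_mem_monomial hn
    set p : Fin D.nroots := ⟨D.simple (T.node b).val, C.R.simple_lt _⟩ with hp
    have hpar : par C.R m (w p : Fin D.nroots) = 0 := by
      rw [hw, ← wordApply_eq]; exact T.root_mem b
    have hd : n * C.R.torusSingle (T.node b) (u b) * n⁻¹ ∈ D.diagonalSubgroup K :=
      C.conj_diagonal_mem hnm (by rw [C.diagonalSubgroup_eq]; exact ⟨_, rfl⟩)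
    rw [C.diagonalSubgroup_eq] at hd
    obtain ⟨c', hc'⟩ := hd
    refine ⟨c', ?_, fun j => ?_⟩
    · rw [hc', ← C.hGL_simple, C.hGL_eq]
      obtain ⟨e, -, he⟩ := C.nGL_conj hacts p
      rw [show n * (C.nGL (D.simple (T.node b).val) (u b : K) * C.nGL (D.simple (T.node b).val) (-1)) *
          n⁻¹ = n * C.nGL p (u b : K) * n⁻¹ * (n * C.nGL p (-1) * n⁻¹) by
        show _ = n * C.nGL (D.simple (T.node b).val) _ * n⁻¹ *
          (n * C.nGL (D.simple (T.node b).val) _ * n⁻¹)
        group, he, he]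
      exact mul_mem (nGL_mem_lev C (w p).isLt hpar _) (nGL_mem_lev C (w p).isLt hpar _)
    · set r : Fin D.nroots := w⁻¹ ⟨D.simple j.val, C.R.simple_lt j⟩ with hr
      have h1 := torusChar_conj C hnm (Acts.moves C hacts) hc'.symm (C.R.α r)
      rw [wMat_mulVec C.hR hwm, show w r = ⟨D.simple j.val, C.R.simple_lt j⟩ by
          rw [hr, Equiv.Perm.inv_def, Equiv.apply_symm_apply], C.R.α_simple, torusChar_eq_chi,
        chi_single, C.R.torusChar_single _ _ r.isLt] at h1
      rw [h1, hr, hw, ← wordPerm_reverse, ← wordApply_eq]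
  choose c' hc' hco using hkey
  have hP : C.R.torus (∏ b, c' b) = C.R.torus c := by
    rw [torus_eq_iff]
    funext j
    rw [show coords (D := D) (∏ b, c' b) = ∏ b, coords (D := D) (c' b) from
      map_prod (monHom (cartanMat D)) c' Finset.univ, Finset.prod_apply]
    simp only [hco, hu, ← Finset.prod_zpow, ← _root_.zpow_mul]
    rw [Finset.prod_comm]
    rw [Fintype.prod_eq_single j]
    · rw [ChevField.prod_zpow_eq, show ∑ b, T.B b j *
          D.cartan (T.node b).val (wordApply D (T.word b).reverse (D.simple j.val)) = (T.d : ℤ) by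
        have := T.torus_spec j j
        rw [if_pos rfl] at this
        rw [← this]
        exact Finset.sum_congr rfl fun b _ => mul_comm _ _, zpow_natCast, hg]
    · intro k hk
      rw [ChevField.prod_zpow_eq, show ∑ b, T.B b k *
          D.cartan (T.node b).val (wordApply D (T.word b).reverse (D.simple j.val)) = 0 by
        have := T.torus_spec j k
        rw [if_neg (Ne.symm hk)] at this
        rw [← this]
        exact Finset.sum_congr rfl fun b _ => mul_comm _ _, _root_.zpow_zero]
  rw [← hP]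
  exact Subgroup.prod_mem ((levCurves C m).group.comap (C.R.torus (F := K))) (t := Finset.univ)
    (f := c') fun b _ => hc' b

omit hN [NeZero (2 : K)] in
theorem monomial_mem_lev [IsAlgClosed K] (T : SubCert C.hR m) {n : GL D.Idx K}
    (hn : n ∈ D.monomialSubgroup K) {w : Equiv.Perm (Fin D.nroots)} (hw : C.Moves n w)
    (hst : w ∈ stab C.hR m) : n ∈ (levCurves C m).group := by
  let H : Subgroup (Equiv.Perm (Fin D.nroots)) :=
    ((levCurves C m).group.subgroupOf (D.monomialSubgroup K)).map C.rootAction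
  have hle : Subgroup.closure (Set.range T.gen) ≤ H := by
    refine (Subgroup.closure_le _).2 ?_
    rintro _ ⟨b, rfl⟩
    obtain ⟨a, ha, hacts⟩ := C.exists_rep (C.hR.wordPerm_mem (T.word b))
    have ham := C.rep_mem_monomial ha
    have hbm : a * C.nS (T.node b) * a⁻¹ ∈ D.monomialSubgroup K :=
      mul_mem (mul_mem ham (C.nS_mem_monomial _)) (inv_mem ham)
    refine ⟨⟨_, hbm⟩, ?_, C.rootAction_eq ?_⟩
    · show a * C.nS (T.node b) * a⁻¹ ∈ (levCurves C m).group
      obtain ⟨e, -, he⟩ := C.nGL_conj hacts ⟨D.simple (T.node b).val, C.R.simple_lt _⟩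
      rw [nS, he]
      refine nGL_mem_lev C (Fin.isLt _) ?_ _
      rw [← wordApply_eq]
      exact T.root_mem b
    · rw [SubCert.gen, wordPerm_reflWord]
      exact Moves.mul C (Moves.mul C (Acts.moves C hacts) (Acts.moves C (C.acts_nS _)))
        (Moves.inv C ham (Acts.moves C hacts))
  obtain ⟨⟨n0, hn0⟩, hn0L, hn0w⟩ := hle (T.stab_le_closure hst)
  have hn0mv : C.Moves n0 w := hn0w ▸ C.moves_permOf ⟨n0, hn0⟩
  have hd : n * n0⁻¹ ∈ D.diagonalSubgroup K :=
    C.mem_diagonal_of_moves_one (mul_mem hn (inv_mem hn0))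
      (by simpa using Moves.mul C hw (Moves.inv C hn0 hn0mv))
  rw [C.diagonalSubgroup_eq] at hd
  obtain ⟨c, hc⟩ := hd
  rw [show n = C.R.torus c * n0 by rw [hc, inv_mul_cancel_right]]
  exact mul_mem (torus_mem_lev C T c) hn0L

theorem stab_of_commute {g : GL D.Idx K} (hg : g ∈ D.group K)
    (h : g * C.R.torus (signPar (K := K) N m) = C.R.torus (signPar (K := K) N m) * g) :
    ∃ w ∈ stab C.hR m, ∃ n ∈ D.monomialSubgroup K, C.Moves n w ∧
      ∃ v ∈ C.Ucl {r | r ∈ {r | D.IsPosRoot r} ∧ par C.R m r = 0}, ∃ c : Fin D.rank → Kˣ,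
      ∃ u ∈ C.Ucl {r | r ∈ C.hR.invRoots w ∧ par C.R m r = 0}, g = v * C.R.torus c * n * u := by
  obtain ⟨w, hw, n, hn, hnw, hma, v, hv, c, u, hu, rfl, hbv, hau⟩ :=
    intertwine C hg (a := signPar (K := K) N m) (b := signPar (K := K) N m) (by rw [h, mul_inv_cancel_right])
  rw [moves_conj C hN hn hnw] at hma
  rw [C.posUnipotent_eq] at hv
  exact ⟨w, ⟨hw, torus_signPar_injective C hN hma⟩, n, hn, hnw, v,
    mem_Ucl_fixed C hN C.R.isClosed_pos hv hbv, c, u,
    mem_Ucl_fixed C hN (C.hR.invRoots_closed hw) hu hau, rfl⟩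

/-- The centraliser of an involution in the torus is generated by the root subgroups it fixes. -/
theorem mem_lev_of_commute [IsAlgClosed K] (T : SubCert C.hR m) {g : GL D.Idx K} (hg : g ∈ D.group K)
    (h : g * C.R.torus (signPar (K := K) N m) = C.R.torus (signPar (K := K) N m) * g) :
    g ∈ (levCurves C m).group := by
  obtain ⟨w, hw, n, hn, hnw, v, hv, c, u, hu, rfl⟩ := stab_of_commute C hN hg h
  have hle : ∀ S : Set ℕ, (∀ r ∈ S, par C.R m r = 0) → C.Ucl S ≤ (levCurves C m).group :=
    fun S hS => C.Ucl_le fun r hr t => by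
      by_cases hrn : r < D.nroots
      · exact xGL_mem_lev C hrn (hS r hr) t
      · rw [C.xGL_of_le (not_lt.1 hrn)]; exact one_mem _
  exact mul_mem (mul_mem (mul_mem (hle _ (fun _ hr => hr.2) hv) (torus_mem_lev C T c))
    (monomial_mem_lev C T hn hnw hw)) (hle _ (fun _ hr => hr.2) hu)

end Tor

end CfsgLib.ExcInvol
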