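import Cfsg.Agent.Lib.ExcInvol.DataE8B

/-!
Tables for the class of sign patterns of type E8 fixing roots of type D8.
-/

set_option autoImplicit false
set_option maxHeartbeats 4000000

namespace CfsgLib.ExcInvol.E8

open Cfsg.Lie CfsgLib.ChevStr

theorem reflDataB : ReflData rootDataB := ReflData.ofCheck (List.all_eq_true.2 fun i _ => by
  obtain ⟨i, hi⟩ := i
  have hi' : i < 8 := hi
  interval_cases i <;> (revert hi; decide +kernel))

theorem card_weylB : Nat.card reflDataB.weyl = 5160960 :=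
  card_weyl_of_chain reflDataB [(⟨6, by decide⟩, 15), (⟨7, by decide⟩, 13), (⟨1, by decide⟩, 11), (⟨0, by decide⟩, 9), (⟨2, by decide⟩, 7), (⟨3, by decide⟩, 4), (⟨4, by decide⟩, 3), (⟨5, by decide⟩, 2)] _ (by decide +kernel)

theorem poincareB (q : ℤ) :
    reflDataB.poincare Finset.univ q * (q - 1) ^ datumB.rank =
      ([2, 4, 6, 8, 10, 12, 14, 8].map fun d : ℕ => q ^ d - 1).prod :=
  reflDataB.poincare_of_check [(⟨6, by decide⟩, 15), (⟨7, by decide⟩, 13), (⟨1, by decide⟩, 11), (⟨0, by decide⟩, 9), (⟨2, by decide⟩, 7), (⟨3, by decide⟩, 4), (⟨4, by decide⟩, 3), (⟨5, by decide⟩, 2)] _ (by decide)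
    (by decide +kernel) q

theorem ncard_posB : Set.ncard {r | datumB.IsPosRoot r} = 56 := ncard_isPosRoot (by decide +kernel)

end CfsgLib.ExcInvol.E8
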